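import Cfsg.Agent.H80.Fischer.Plane22
import Cfsg.Agent.H93.Count23G
import Cfsg.Prelude.Def_CaseTheorems

/-!
The centralisers of members in groups of type M(22) and M(23) are quasisimple, and the groups
themselves are simple.
-/

set_option autoImplicit false

namespace Cfsg.Agent.H80.Fischer

open Cfsg.Agent.H93
open scoped commutatorElement

/-- a central extension of a simple group whose kernel lies in the commutator subgroup -/
theorem ext_facts {C S : Type*} [Group C] [Group S] (π : C →* S) (hsurj : Function.Surjective π)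
    (hs : IsSimpleGroup S) (hc : Subgroup.center S = ⊥) (hk : π.ker ≤ Subgroup.center C)
    (hker : π.ker ≤ commutator C) :
    Group.IsPerfect C ∧ IsSimpleGroup (C ⧸ Subgroup.center C) ∧ Subgroup.center C = π.ker ∧
      ∀ N : Subgroup C, N.Normal → N ≤ π.ker ∨ N = ⊤ := by
  have hcen : Subgroup.center C = π.ker := by
    refine le_antisymm (fun z hz => ?_) hk
    have : π z ∈ Subgroup.center S := Subgroup.mem_center_iff.mpr fun g => by
      obtain ⟨c, rfl⟩ := hsurj g
      rw [← map_mul, ← map_mul, Subgroup.mem_center_iff.mp hz c]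
    rwa [hc, Subgroup.mem_bot] at this
  have hperf : commutator C = ⊤ := by
    have hn : ((commutator C).map π).Normal := Subgroup.Normal.map inferInstance π hsurj
    rcases hn.eq_bot_or_eq_top with e | e
    · exfalso
      have : Subgroup.center S = ⊤ := by
        refine eq_top_iff.mpr fun g _ => Subgroup.mem_center_iff.mpr fun g' => ?_
        obtain ⟨c, rfl⟩ := hsurj g
        obtain ⟨c', rfl⟩ := hsurj g'
        have hm : π ⁅c', c⁆ ∈ (commutator C).map π :=
          ⟨_, Subgroup.commutator_mem_commutator (Subgroup.mem_top _) (Subgroup.mem_top _), rfl⟩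
        rw [e, Subgroup.mem_bot, map_commutatorElement, commutatorElement_eq_one_iff_mul_comm] at hm
        exact hm
      rw [hc] at this
      exact bot_ne_top this
    · refine eq_top_iff.mpr fun g _ => ?_
      obtain ⟨c, hcC, ec⟩ := (e ▸ Subgroup.mem_top (π g) : π g ∈ (commutator C).map π)
      have : c⁻¹ * g ∈ commutator C := hker (by
        rw [MonoidHom.mem_ker, map_mul, map_inv, ec, inv_mul_cancel])
      simpa using mul_mem hcC this
  refine ⟨Group.isPerfect_def.mpr hperf, ?_, hcen, fun N hN => ?_⟩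
  · exact ((QuotientGroup.quotientMulEquivOfEq hcen).trans
      (QuotientGroup.quotientKerEquivOfSurjective π hsurj)).isSimpleGroup
  · rcases (Subgroup.Normal.map hN π hsurj).eq_bot_or_eq_top with e | e
    · exact Or.inl ((Subgroup.map_eq_bot_iff N).mp e)
    · refine Or.inr (eq_top_iff.mpr ?_)
      rw [← hperf, commutator_def, Subgroup.commutator_le]
      intro x _ y _
      have split : ∀ x : C, ∃ n ∈ N, ∀ z : C, Commute (n⁻¹ * x) z := fun x => by
        obtain ⟨n, hn, en⟩ := (e ▸ Subgroup.mem_top (π x) : π x ∈ N.map π)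
        refine ⟨n, hn, fun z => ((Subgroup.mem_center_iff.mp (hk ?_) z).symm)⟩
        rw [MonoidHom.mem_ker, map_mul, map_inv, en, inv_mul_cancel]
      obtain ⟨n, hn, cn⟩ := split x
      obtain ⟨m, hm, cm⟩ := split y
      have key : ∀ n m u v : C, (∀ z, Commute u z) → (∀ z, Commute v z) →
          ⁅n * u, m * v⁆ = ⁅n, m⁆ := fun n m u v cu cv => by
        rw [commutatorElement_def, commutatorElement_def]
        calc n * u * (m * v) * (n * u)⁻¹ * (m * v)⁻¹
            = n * (u * (m * v)) * u⁻¹ * n⁻¹ * v⁻¹ * m⁻¹ := by group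
          _ = n * m * (v * n⁻¹) * v⁻¹ * m⁻¹ := by rw [(cu (m * v)).eq]; group
          _ = n * m * n⁻¹ * m⁻¹ := by rw [(cv n⁻¹).eq]; group
      have e1 : ⁅x, y⁆ = ⁅n, m⁆ := by simpa using key n m _ _ cn cm
      rw [e1, commutatorElement_def]
      exact mul_mem (mul_mem (mul_mem hn hm) (inv_mem hn)) (inv_mem hm)

/-- an involutory central member is a commutator when it is a product of evenly many conjugate
members of the neighbourhood -/
theorem self_mem_commutator {G : Type*} [Group G] {D : Set G} (htt : TT D) {a : G}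
    (hH : a ∈ Subgroup.centralizer ({a} : Set G))
    (hconj : ∀ y ∈ nb D a, ∀ z ∈ nb D a, ∃ k : G, Commute k a ∧ k * y * k⁻¹ = z)
    {l : List G} (hl : ∀ y ∈ l, y ∈ nb D a) (he : Even l.length) (hp : l.prod = a) :
    (⟨a, hH⟩ : ↥(Subgroup.centralizer ({a} : Set G))) ∈
      commutator ↥(Subgroup.centralizer ({a} : Set G)) := by
  set f := Abelianization.of (G := ↥(Subgroup.centralizer ({a} : Set G)))
  rw [← Abelianization.ker_of, MonoidHom.mem_ker]
  rcases List.eq_nil_or_concat' l with rfl | ⟨l', y, rfl⟩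
  · have e : (⟨a, hH⟩ : ↥(Subgroup.centralizer ({a} : Set G))) = 1 := Subtype.ext (by simpa using hp.symm)
    rw [e, map_one]
  have hy := hl y (by simp)
  have all : ∀ z, ∀ hz : z ∈ nb D a, f ⟨z, mem_cent hz.2.2⟩ = f ⟨y, mem_cent hy.2.2⟩ := by
    intro z hz
    obtain ⟨k, hk, e⟩ := hconj y hy z hz
    rw [show (⟨z, mem_cent hz.2.2⟩ : ↥(Subgroup.centralizer ({a} : Set G))) =
      ⟨k, mem_cent hk.symm⟩ * ⟨y, mem_cent hy.2.2⟩ * ⟨k, mem_cent hk.symm⟩⁻¹ from Subtype.ext e.symm,
      map_mul, map_mul, map_inv, mul_comm, inv_mul_cancel_left]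
  set L := (l' ++ [y]).attach.map fun z =>
    (⟨z.1, mem_cent (hl z.1 z.2).2.2⟩ : ↥(Subgroup.centralizer ({a} : Set G))) with hL
  have hLp : L.prod = ⟨a, hH⟩ := by
    apply Subtype.ext
    rw [← Subgroup.coe_subtype, map_list_prod, hL, List.map_map]
    exact (congrArg List.prod (List.attach_map_val (f := id) (l := l' ++ [y]))).trans (by simpa using hp)
  rw [← hLp, map_list_prod, List.prod_eq_pow_card _ (f ⟨y, mem_cent hy.2.2⟩) (by
    intro q hq
    simp only [hL, List.map_map, List.mem_map] at hq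
    obtain ⟨⟨z, hz⟩, -, rfl⟩ := hq
    exact all z (hl z hz))]
  obtain ⟨n, hn⟩ := he
  have hlen : (List.map f L).length = 2 * n := by simpa [hL, two_mul] using hn
  rw [hlen, pow_mul]
  have : f ⟨y, mem_cent hy.2.2⟩ ^ 2 = 1 := by
    rw [← map_pow, pow_two, show (⟨y, mem_cent hy.2.2⟩ : ↥(Subgroup.centralizer ({a} : Set G))) *
      ⟨y, mem_cent hy.2.2⟩ = 1 from Subtype.ext (htt.sq y hy.1), map_one]
  rw [this, one_pow]

/-- simplicity from the centralisers of members -/
theorem simple_of_members {G : Type*} [Group G] [Finite G] {D : Set G} (hcore : Core D)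
    (hgen : Subgroup.closure D = ⊤) (hne : D.Nonempty)
    (hcen : ∀ k : G, (∀ t ∈ D, Commute k t) → k = 1)
    (hfar : ∀ {a d d' : G}, a ∈ D → d ∈ D → d' ∈ D → ¬ Commute a d → ¬ Commute a d' →
      ∃ k : G, Commute k a ∧ k * d' * k⁻¹ = d)
    (hN : ∀ a ∈ D, ∀ N : Subgroup G, N.Normal → a ∈ N ∨ ∀ x ∈ N, Commute x a → x = 1 ∨ x = a)
    (hlt : ∀ a ∈ D, ∀ d ∈ D, ¬ Commute a d → (common D a d).ncard < (nb D d).ncard) :
    IsSimpleGroup G := by
  have htt := hcore.tt
  obtain ⟨a0, ha0⟩ := hne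
  have : Nontrivial G := ⟨a0, 1, hcore.ne_one a0 ha0⟩
  refine ⟨fun N hNn => ?_⟩
  by_cases hD : ∃ a ∈ D, a ∈ N
  · obtain ⟨a, ha, haN⟩ := hD
    refine Or.inr (eq_top_iff.mpr ?_)
    rw [← hgen, Subgroup.closure_le]
    intro b hb'
    obtain ⟨g, rfl⟩ := isConj_iff.mp (hcore.cls a ha b hb')
    exact hNn.conj_mem a haN g
  have triv : ∀ a ∈ D, ∀ x ∈ N, Commute x a → x = 1 := fun a ha x hx hc => by
    rcases hN a ha N hNn with e | e
    · exact absurd ⟨a, ha, e⟩ hD
    · exact (e x hx hc).resolve_right fun q => hD ⟨a, ha, q ▸ hx⟩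
  left
  by_contra hne'
  obtain ⟨n, hn, hn1⟩ := (Subgroup.bot_or_exists_ne_one N).resolve_left hne'
  obtain ⟨a, ha, hna⟩ : ∃ a ∈ D, ¬ Commute n a := by
    by_contra q
    simp only [not_exists, not_and, not_not] at q
    exact hn1 (hcen n q)
  set a' := n * a * n⁻¹ with ha'
  have ha'D : a' ∈ D := htt.conj_mem n a ha
  have hne2 : a' ≠ a := fun e => hna (mul_inv_eq_iff_eq_mul.mp e)
  have haa' : a * a' ∈ N := by
    rw [ha', show a * (n * a * n⁻¹) = (a * n * a⁻¹) * n⁻¹ by
      rw [htt.inv_eq ha]; group]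
    exact mul_mem (hNn.conj_mem n hn a) (inv_mem hn)
  have same : ∀ {p q}, p ∈ D → q ∈ D → Commute p q → p * q ∈ N → p = q := fun {p q} hp hq hc hm => by
    have := triv p hp _ hm ((Commute.refl p).mul_left hc.symm)
    exact (eq_inv_of_mul_eq_one_left this).trans (htt.inv_eq hq)
  have hfa : ¬ Commute a a' := fun c => hne2 (same ha ha'D c haa').symm
  have all : ∀ e ∈ D, ¬ Commute a e → a * e ∈ N := fun e he c => by
    obtain ⟨k, hk, hke⟩ := hfar ha he ha'D c hfa
    have := hNn.conj_mem _ haa' k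
    rwa [show k * (a * a') * k⁻¹ = (k * a * k⁻¹) * (k * a' * k⁻¹) by group, hke,
      mul_inv_eq_iff_eq_mul.mpr hk.eq] at this
  have sub : nb D a' ⊆ common D a a' := fun e he => by
    have hae : Commute a e := by
      by_contra c
      apply he.2.1
      refine (same ha'D he.1 he.2.2 ?_).symm
      have := mul_mem (inv_mem haa') (all e he.1 c)
      rwa [mul_inv_rev, htt.inv_eq ha'D, htt.inv_eq ha, mul_assoc, htt.cancel ha] at this
    exact ⟨⟨he.1, fun q => hfa (q ▸ he.2.2.symm), hae⟩, he⟩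
  exact absurd (Set.ncard_le_ncard sub (Set.toFinite _)) (not_le.mpr (hlt a ha a' ha'D hfa))

section M22

variable {G : Type*} [Group G] {D : Set G} {K : Type*} [Field K] [Fintype K] (h : Geo22 D K)

include h

/-- the centraliser of a member in type M(22) -/
theorem cent22_facts {a : G} (ha : a ∈ D) :
    Group.IsPerfect ↥(Subgroup.centralizer ({a} : Set G)) ∧
      IsSimpleGroup (↥(Subgroup.centralizer ({a} : Set G)) ⧸
        Subgroup.center ↥(Subgroup.centralizer ({a} : Set G))) ∧
      (∀ x : ↥(Subgroup.centralizer ({a} : Set G)),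
        x ∈ Subgroup.center ↥(Subgroup.centralizer ({a} : Set G)) ↔ (x : G) = 1 ∨ (x : G) = a) ∧
      ∀ N : Subgroup G, N.Normal → a ∈ N ∨ ∀ x ∈ N, Commute x a → x = 1 ∨ x = a := by
  have hK := h.hK
  obtain ⟨π, he, ⟨xs⟩⟩ := h.exists_space ha
  obtain ⟨P, Q, p⟩ := exists_plane hK
  obtain ⟨s, hs, -, -, hprod⟩ := plane_six h he xs p
  have hA := self_mem_commutator h.core.tt (mem_cent (Commute.refl a))
    (fun y hy z hz => by
      obtain ⟨k, e1, e2, -⟩ := exists_conj_nb h.core hy hz ha (xs.sp.sep hK)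
      exact ⟨k, mul_inv_eq_iff_eq_mul.mp e2, e1⟩)
    (l := [xs.sp.pt (P 0), xs.sp.pt (P 1), xs.sp.pt (P 2), s 0, s 1, s 2])
    (by simp [xs.sp.mem (p.pt 0), xs.sp.mem (p.pt 1), xs.sp.mem (p.pt 2), hs])
    (by simp; decide) (by simpa [mul_assoc] using hprod)
  have hk : π.ker ≤ Subgroup.center _ := fun x hx => by
    rcases he.ker x hx with e | e
    · rw [e]; exact one_mem _
    · rw [e]; exact Subgroup.mem_center_iff.mpr fun g => (he.cen g).symm.eq
  have hker : π.ker ≤ commutator _ := fun x hx => by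
    rcases he.ker x hx with e | e
    · rw [e]; exact one_mem _
    · rw [e]; exact hA
  obtain ⟨f1, f2, f3, f4⟩ := ext_facts π he.surj (psu_six_center hK).1 (psu_six_center hK).2 hk hker
  have kiff : ∀ x : ↥(Subgroup.centralizer ({a} : Set G)), x ∈ π.ker ↔ (x : G) = 1 ∨ (x : G) = a :=
    fun x => ⟨fun hx => (he.ker x hx).imp (congrArg Subtype.val) (congrArg Subtype.val), fun hx => by
      rcases hx with e | e
      · rw [show x = 1 from Subtype.ext e]; exact one_mem _
      · rw [show x = ⟨a, mem_cent (Commute.refl a)⟩ from Subtype.ext e]; exact he.π_d hK⟩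
  refine ⟨f1, f2, fun x => by rw [f3, kiff], fun N hN => ?_⟩
  rcases f4 (N.subgroupOf _) (hN.subgroupOf _) with e | e
  · exact Or.inr fun x hx hc => (kiff ⟨x, mem_cent hc.symm⟩).mp (e hx)
  · exact Or.inl (e ▸ Subgroup.mem_top _ :
      (⟨a, mem_cent (Commute.refl a)⟩ : ↥(Subgroup.centralizer ({a} : Set G))) ∈ N.subgroupOf _)

/-- groups of type M(22) are simple -/
theorem simple22 [Finite G] (hgen : Subgroup.closure D = ⊤) (hne : D.Nonempty) : IsSimpleGroup G :=
  simple_of_members h.core hgen hne h.cen h.conj_far (fun a ha => (cent22_facts h ha).2.2.2)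
    fun a ha d hd hn => by rw [h.card_common ha hd hn, h.card_nb hd]; norm_num

end M22

section M23

variable {G : Type*} [Group G] [Finite G] {D : Set G} (h : Geo23 D) (hm : M23Data D)

include h hm

omit hm in
/-- residues in type M(23) are simple -/
theorem residue23_simple {a : G} (ha : a ∈ D) :
    IsSimpleGroup (Residue D a) ∧ Subgroup.center (Residue D a) = ⊥ := by
  obtain ⟨K, iK, iKF, h22⟩ := h.res a ha
  obtain ⟨b, hb'⟩ := h.core.edge a ha
  have hgen := closure_resSet (D := D) a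
  refine ⟨simple22 h22 hgen ⟨_, rimg_mem hb'⟩, (Subgroup.eq_bot_iff_forall _).mpr fun z hz =>
    h22.cen z fun t _ => (Subgroup.mem_center_iff.mp hz t).symm⟩

/-- the centraliser of a member in type M(23) -/
theorem cent23_facts {a : G} (ha : a ∈ D) :
    Group.IsPerfect ↥(nbSub D a) ∧ IsSimpleGroup (↥(nbSub D a) ⧸ Subgroup.center ↥(nbSub D a)) ∧
      (∀ x : ↥(nbSub D a), x ∈ Subgroup.center ↥(nbSub D a) ↔ (x : G) = 1 ∨ (x : G) = a) ∧
      ∀ N : Subgroup G, N.Normal → a ∈ N ∨ ∀ x ∈ N, Commute x a → x = 1 ∨ x = a := by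
  obtain ⟨b, hb'⟩ := h.core.edge a ha
  obtain ⟨⟨l, hl6, hl, hlp⟩, -, -⟩ := hm.pair_words ha hb'
  have hA := self_mem_commutator h.core.tt (mem_cent (Commute.refl a))
    (fun y hy z hz => h.conj_nb ha hz hy)
    (l := l) (fun y hy => (hl y hy).1) (by rw [hl6]; decide) hlp
  obtain ⟨hs, hc⟩ := residue23_simple h ha
  have hself : ∀ g : ↥(nbSub D a), (g : G) = a → g ∈ Subgroup.center ↥(nbSub D a) := fun g hg => by
    rw [mem_center_nbSub, hg]
    exact fun v hv => hv.2.2.symm
  have hA' : (⟨a, h.self a ha⟩ : ↥(nbSub D a)) ∈ commutator ↥(nbSub D a) := by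
    have e := h.cent a ha
    have e2 : (commutator ↥(Subgroup.centralizer ({a} : Set G))).map
        (MulEquiv.subgroupCongr e).toMonoidHom = commutator ↥(nbSub D a) := by
      rw [commutator_def, commutator_def, Subgroup.map_commutator,
        Subgroup.map_top_of_surjective _ (MulEquiv.subgroupCongr e).surjective]
    rw [← e2]
    exact ⟨_, hA, rfl⟩
  have two := h.two a ha
  obtain ⟨f1, f2, f3, f4⟩ := ext_facts (QuotientGroup.mk' (Subgroup.center ↥(nbSub D a)))
    (QuotientGroup.mk'_surjective _) hs hc (by rw [QuotientGroup.ker_mk'])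
    (by
      rw [QuotientGroup.ker_mk']
      intro x hx
      rcases two x hx with e | e
      · rw [show x = 1 from Subtype.ext e]; exact one_mem _
      · rw [show x = ⟨a, h.self a ha⟩ from Subtype.ext e]; exact hA')
  have kiff : ∀ x : ↥(nbSub D a),
      x ∈ Subgroup.center ↥(nbSub D a) ↔ (x : G) = 1 ∨ (x : G) = a := fun x =>
    ⟨two x, fun hx => hx.elim (fun e => by rw [show x = 1 from Subtype.ext e]; exact one_mem _)
      (hself x)⟩
  refine ⟨f1, f2, kiff, fun N hN => ?_⟩
  rw [QuotientGroup.ker_mk'] at f4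
  rcases f4 (N.subgroupOf (nbSub D a)) (hN.subgroupOf _) with e | e
  · exact Or.inr fun x hx hc' => (kiff ⟨x, h.cent a ha ▸ mem_cent hc'.symm⟩).mp (e hx)
  · exact Or.inl (e ▸ Subgroup.mem_top _ : (⟨a, h.self a ha⟩ : ↥(nbSub D a)) ∈ N.subgroupOf _)

/-- groups of type M(23) are simple -/
theorem simple23 : IsSimpleGroup G :=
  simple_of_members h.core hm.gen hm.nonempty h.cen h.conj_far
    (fun a ha => (cent23_facts h hm ha).2.2.2)
    fun a ha d hd hn => by rw [h.card_common ha hd hn, h.card_nb hd]; norm_num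

end M23

end Cfsg.Agent.H80.Fischer
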