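import Cfsg.Agent.H80.Fischer.Perfect
import Cfsg.Prelude.Def_FischerSpaces

/-!
The width of classes of type M(22) and M(23).
-/

set_option autoImplicit false

namespace Cfsg.Agent.H80.Fischer

open Cfsg.Agent.H93

variable {G : Type*} [Group G] [Finite G] {D : Set G}

omit [Finite G] in
/-- the supremum is the largest attained size -/
theorem width_eq {n : ℕ} (hle : ∀ E : Set G, E ⊆ D → (∀ a ∈ E, ∀ b ∈ E, Commute a b) → E.ncard ≤ n)
    (hex : ∃ E : Set G, E ⊆ D ∧ E.Finite ∧ (∀ a ∈ E, ∀ b ∈ E, Commute a b) ∧ E.ncard = n) :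
    Cfsg.commutingWidth D = n := by
  unfold Cfsg.commutingWidth
  refine le_antisymm (csSup_le ⟨n, hex⟩ ?_) (le_csSup ⟨n, ?_⟩ hex) <;>
    rintro m ⟨E, hE, -, hc, rfl⟩ <;> exact hle E hE hc

section M22

variable {K : Type*} [Field K] [Fintype K] (h : Geo22 D K)

include h

/-- cliques in type M(22) -/
theorem clique22 :
    (∀ E : Set G, E ⊆ D → (∀ a ∈ E, ∀ b ∈ E, Commute a b) → E.ncard ≤ 22) ∧
      ∀ a ∈ D, ∃ E : Set G, E ⊆ D ∧ E.Finite ∧ (∀ x ∈ E, ∀ y ∈ E, Commute x y) ∧ E.ncard = 22 := by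
  have hK := h.hK
  refine ⟨fun E hE hc => ?_, fun a ha => ?_⟩
  · rcases E.eq_empty_or_nonempty with rfl | ⟨e, he⟩
    · simp
    obtain ⟨π, -, ⟨xs⟩⟩ := h.exists_space (hE he)
    have h1 := clique_le hK xs.sp (E := E \ {e})
      (fun y hy => ⟨hE hy.1, hy.2, hc e he y hy.1⟩) fun a ha b hb' => hc a ha.1 b hb'.1
    rw [Set.ncard_sdiff_singleton_of_mem he] at h1
    omega
  · obtain ⟨π, -, ⟨xs⟩⟩ := h.exists_space ha
    obtain ⟨P, Q, p⟩ := exists_plane hK
    set T := Submodule.span K (Set.range P) with hTdef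
    have ho : ∀ x ∈ T, ∀ y ∈ T, hb x y = 0 := span_orth hK (by
      rintro _ ⟨i, rfl⟩ _ ⟨j, rfl⟩; exact p.orth i j)
    have hT : ∀ x ∈ T, x ≠ 0 → IsPt x := fun x hx h0 => ⟨h0, ho x hx x hx⟩
    have h1 := rep_count_eq hK xs.sp T hT
    have h3 : Module.finrank K T = 3 := by
      rw [hTdef, finrank_span_eq_card p.li, Fintype.card_fin]
    rw [h3] at h1
    set E := xs.sp.pt '' {x | x ∈ T ∧ x ≠ 0} with hEdef
    have hsub : ∀ y ∈ E, y ∈ nb D a := by
      rintro _ ⟨x, hx, rfl⟩; exact xs.sp.mem (hT x hx.1 hx.2)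
    have hna : a ∉ E := fun q => (hsub a q).2.1 rfl
    refine ⟨insert a E, ?_, Set.toFinite _, ?_, ?_⟩
    · rintro y (rfl | hy)
      exacts [ha, (hsub y hy).1]
    · rintro x (rfl | hx) y (rfl | hy)
      · exact Commute.refl _
      · exact (hsub y hy).2.2
      · exact (hsub x hx).2.2.symm
      · obtain ⟨u, hu, rfl⟩ := hx
        obtain ⟨v, hv, rfl⟩ := hy
        exact (xs.sp.comm (hT u hu.1 hu.2) (hT v hv.1 hv.2)).mpr (ho u hu.1 v hv.1)
    · rw [Set.ncard_insert_of_notMem hna (Set.toFinite _)]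
      omega

theorem width22 {a : G} (ha : a ∈ D) : Cfsg.commutingWidth D = 22 :=
  width_eq (clique22 h).1 ((clique22 h).2 a ha)

end M22

variable (h : Geo23 D)

include h

theorem width23 {a : G} (ha : a ∈ D) : Cfsg.commutingWidth D = 23 := by
  refine width_eq (fun E hE hc => ?_) ?_
  · rcases E.eq_empty_or_nonempty with rfl | ⟨e, he⟩
    · simp
    obtain ⟨K, iK, iKF, h22⟩ := h.res e (hE he)
    have hsub : ∀ y ∈ E \ {e}, y ∈ nb D e := fun y hy => ⟨hE hy.1, hy.2, hc e he y hy.1⟩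
    have h1 := (clique22 h22).1 (rimg D e '' (E \ {e}))
      (by rintro _ ⟨y, hy, rfl⟩; exact rimg_mem (hsub y hy))
      (by
        rintro _ ⟨y, hy, rfl⟩ _ ⟨z, hz, rfl⟩
        exact (h.core.rimg_comm (hsub y hy) (hsub z hz)).mpr (hc y hy.1 z hz.1))
    rw [Set.InjOn.ncard_image fun y hy z hz q =>
      (h.core.rimg_inj (hE he) (hsub y hy) (hsub z hz)).mp q,
      Set.ncard_sdiff_singleton_of_mem he] at h1
    omega
  · obtain ⟨K, iK, iKF, h22⟩ := h.res a ha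
    obtain ⟨b, hb'⟩ := h.core.edge a ha
    obtain ⟨E', hE', -, hc', hn⟩ := (clique22 h22).2 _ (rimg_mem hb')
    set E := {y | y ∈ nb D a ∧ rimg D a y ∈ E'} with hEdef
    have himg : rimg D a '' E = E' := by
      refine Set.Subset.antisymm (by rintro _ ⟨y, hy, rfl⟩; exact hy.2) fun e he => ?_
      obtain ⟨y, hy, rfl⟩ := rimg_surj (hE' he)
      exact ⟨y, ⟨hy, he⟩, rfl⟩
    rw [← himg, Set.InjOn.ncard_image fun y hy z hz q =>
      (h.core.rimg_inj ha hy.1 hz.1).mp q] at hn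
    refine ⟨insert a E, ?_, Set.toFinite _, ?_, ?_⟩
    · rintro y (rfl | hy)
      exacts [ha, hy.1.1]
    · rintro x (rfl | hx) y (rfl | hy)
      · exact Commute.refl _
      · exact hy.1.2.2
      · exact hx.1.2.2.symm
      · exact (h.core.rimg_comm hx.1 hy.1).mp (hc' _ hx.2 _ hy.2)
    · rw [Set.ncard_insert_of_notMem (fun q => q.1.2.1 rfl) (Set.toFinite _), hn]

end Cfsg.Agent.H80.Fischer
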