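import Cfsg.Agent.H93.Pair23
import Cfsg.Agent.H93.Count22

/-!
Totally isotropic subspaces of the six dimensional Hermitian space over the field with four elements:
how many members they carry, five points with transvection product one, nine points of a plane,
and the decomposition of an involution.
-/

set_option autoImplicit false

namespace Cfsg.Agent.H80.Fischer

open Cfsg.Agent.H93

variable {K : Type*} [Field K] [Fintype K] (hK : Fintype.card K = 4)
variable {G : Type*} [Group G] {S : Set G}

include hK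

/-- members represented inside a subspace -/
theorem rep_count (sp : U6Space K S) (T : Submodule K (Vec K)) {E : Set G}
    (hE : ∀ y ∈ E, ∃ v ∈ T, IsPt v ∧ sp.pt v = y) : 3 * E.ncard + 1 ≤ 4 ^ Module.finrank K T := by
  classical
  choose v hvT hv hpv using hE
  let f : ↥E × Kˣ → {x : ↥T // x ≠ 0} := fun p =>
    ⟨⟨(p.2 : K) • v p.1 p.1.2, T.smul_mem _ (hvT _ _)⟩,
      fun h => smul_ne_zero p.2.ne_zero (hv _ _).1 (congrArg Subtype.val h)⟩
  have hf : Function.Injective f := by
    rintro ⟨⟨y, hy⟩, c⟩ ⟨⟨y', hy'⟩, c'⟩ h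
    have h' : (c : K) • v y hy = (c' : K) • v y' hy' := congrArg (fun x => (x.1 : Vec K)) h
    have e : y = y' := by
      rw [← hpv y hy, ← hpv y' hy', ← (sp.smul_pt c.ne_zero (hv y hy)).2, h',
        (sp.smul_pt c'.ne_zero (hv y' hy')).2]
    subst e
    exact Prod.ext rfl (Units.ext (smul_left_injective K (hv y hy).1 h'))
  have : Finite (↥E × Kˣ) := Finite.of_injective f hf
  have h1 := Nat.card_le_card_of_injective f hf
  have h2 : Nat.card {x : ↥T // x ≠ 0} + 1 = 4 ^ Module.finrank K T := by
    rw [← hK, ← Nat.card_eq_fintype_card, ← Module.natCard_eq_pow_finrank, ← Finite.card_option]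
    exact Nat.card_congr (Equiv.optionSubtypeNe 0)
  rw [Nat.card_prod, Nat.card_units, Nat.card_eq_fintype_card (α := K), hK,
    Nat.card_coe_set_eq] at h1
  omega

/-- a subspace consisting of points carries exactly one member for three vectors -/
theorem rep_count_eq (sp : U6Space K S) (T : Submodule K (Vec K))
    (hT : ∀ x ∈ T, x ≠ 0 → IsPt x) :
    3 * (sp.pt '' {x | x ∈ T ∧ x ≠ 0}).ncard + 1 = 4 ^ Module.finrank K T := by
  classical
  set E := sp.pt '' {x | x ∈ T ∧ x ≠ 0} with hEdef
  have hE : ∀ y ∈ E, ∃ v ∈ T, IsPt v ∧ sp.pt v = y := by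
    rintro _ ⟨x, ⟨hx, hx0⟩, rfl⟩; exact ⟨x, hx, hT x hx hx0, rfl⟩
  refine le_antisymm (rep_count hK sp T hE) ?_
  choose v hvT hv hpv using hE
  let f : Option (↥E × Kˣ) → ↥T := fun o =>
    o.elim 0 fun p => ⟨(p.2 : K) • v p.1 p.1.2, T.smul_mem _ (hvT _ _)⟩
  have hf : Function.Surjective f := by
    rintro ⟨x, hx⟩
    by_cases h0 : x = 0
    · exact ⟨none, Subtype.ext h0.symm⟩
    · have hy : sp.pt x ∈ E := ⟨x, ⟨hx, h0⟩, rfl⟩
      obtain ⟨c, hc⟩ := (sp.same (hv _ hy) (hT x hx h0)).mp (hpv _ hy)
      have hc0 : c ≠ 0 := fun q => h0 (by rw [hc, q, zero_smul])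
      exact ⟨some (⟨_, hy⟩, Units.mk0 c hc0), Subtype.ext hc.symm⟩
  have : Finite ↥E := ((Set.toFinite {x | x ∈ T ∧ x ≠ 0}).image sp.pt).to_subtype
  have h1 := Nat.card_le_card_of_surjective f hf
  rw [Finite.card_option, Nat.card_prod, Nat.card_units, Nat.card_eq_fintype_card (α := K), hK,
    Nat.card_coe_set_eq, Module.natCard_eq_pow_finrank (K := K), Nat.card_eq_fintype_card (α := K),
    hK] at h1
  omega

/-- pairwise orthogonal vectors span a totally isotropic space -/
theorem span_orth {A : Set (Vec K)} (hA : ∀ u ∈ A, ∀ v ∈ A, hb u v = 0) :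
    ∀ x ∈ Submodule.span K A, ∀ y ∈ Submodule.span K A, hb x y = 0 := by
  intro x hx y hy
  induction hx, hy using Submodule.span_induction₂ with
  | mem_mem x y hx hy => exact hA x hx y hy
  | zero_left y _ => exact hb_zero_left y
  | zero_right x _ => exact hb_zero_right x
  | add_left x y z _ _ _ h1 h2 => rw [hb_add_left, h1, h2, add_zero]
  | add_right x y z _ _ _ h1 h2 => rw [hb_add_right hK, h1, h2, add_zero]
  | smul_left r x y _ _ h => rw [hb_smul_left, h, mul_zero]
  | smul_right r x y _ _ h => rw [hb_smul_right, h, mul_zero]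

/-- totally isotropic spaces have dimension at most three -/
theorem finrank_orth_le {T : Submodule K (Vec K)} (hT : ∀ x ∈ T, ∀ y ∈ T, hb x y = 0) :
    Module.finrank K T ≤ 3 := by
  let b := Module.finBasis K T
  let l : Fin (Module.finrank K T) → Vec K := fun i => (b i : Vec K)
  have hl : LinearIndependent K l := b.linearIndependent.map' T.subtype (Submodule.ker_subtype T)
  have h1 := LinearMap.finrank_range_add_finrank_ker (evalMap l)
  rw [LinearMap.range_eq_top.mpr (evalMap_surjective hK hl), finrank_top] at h1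
  simp only [Module.finrank_fintype_fun_eq_card, Fintype.card_fin] at h1
  have h2 : T ≤ LinearMap.ker (evalMap l) := fun x hx => by
    rw [LinearMap.mem_ker]; exact funext fun i => hT x hx _ (b i).2
  have h3 := Submodule.finrank_mono h2
  omega

/-- a clique in a space has at most twenty one members -/
theorem clique_le (sp : U6Space K S) {E : Set G} (hES : E ⊆ S)
    (hc : ∀ a ∈ E, ∀ b ∈ E, Commute a b) : E.ncard ≤ 21 := by
  have hE : ∀ y ∈ E, ∃ v, IsPt v ∧ sp.pt v = y := fun y hy => sp.surj y (hES hy)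
  choose v hv hpv using hE
  set T := Submodule.span K (Set.range fun y : ↥E => v y y.2) with hTdef
  have hT := span_orth hK (A := Set.range fun y : ↥E => v y y.2) (by
    rintro _ ⟨⟨y, hy⟩, rfl⟩ _ ⟨⟨z, hz⟩, rfl⟩
    refine (sp.comm (hv y hy) (hv z hz)).mp ?_
    rw [hpv, hpv]; exact hc y hy z hz)
  have h1 := rep_count hK sp T (E := E) fun y hy =>
    ⟨v y hy, Submodule.subset_span ⟨⟨y, hy⟩, rfl⟩, hv y hy, hpv y hy⟩
  have h2 : 4 ^ Module.finrank K T ≤ 4 ^ 3 :=
    Nat.pow_le_pow_right (by norm_num) (finrank_orth_le hK hT)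
  omega

/-- a product of transvections of pairwise orthogonal vectors -/
theorem act_prod : ∀ l : List (Vec K), (∀ u ∈ l, ∀ v ∈ l, hb u v = 0) → ∀ x,
    act (l.map (tv hK)).prod x = x + (l.map fun v => hb x v • v).sum
  | [], _, x => by simp [act_one]
  | v :: l, h, x => by
    have hvv := h v List.mem_cons_self v List.mem_cons_self
    have hz : hb (l.map fun w => hb x w • w).sum v = 0 := by
      rw [← hbL_apply, map_list_sum, List.map_map]
      refine List.sum_eq_zero fun z hz => ?_
      obtain ⟨w, hw, rfl⟩ := List.mem_map.mp hz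
      show hbL v (hb x w • w) = 0
      rw [hbL_apply, hb_smul_left, h w (List.mem_cons_of_mem _ hw) v List.mem_cons_self, mul_zero]
    rw [List.map_cons, List.prod_cons, act_mul, act_prod l (fun u hu w hw =>
      h u (List.mem_cons_of_mem _ hu) w (List.mem_cons_of_mem _ hw)), tv_act hK hvv, hb_add_left, hz,
      add_zero, List.map_cons, List.sum_cons]
    abel

/-- five orthogonal vectors whose transvections multiply into the centre -/
theorem central_sum_zero {c : Fin 5 → Vec K} (ho : ∀ i j, hb (c i) (c j) = 0)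
    (h : (List.ofFn fun i => tv hK (c i)).prod ∈ Subgroup.center ↥(Cfsg.SU 6 K 2)) (x : Vec K) :
    ∑ i, hb x (c i) • c i = 0 := by
  obtain ⟨lam, -, hlam⟩ := central_scalar hK h
  have e : ∀ y, lam • y = y + ∑ i, hb y (c i) • c i := fun y => by
    rw [← hlam y, show (List.ofFn fun i => tv hK (c i)) = (List.ofFn c).map (tv hK) by
      rw [List.map_ofFn]; rfl, act_prod hK _ (by
        intro u hu v hv
        obtain ⟨i, rfl⟩ := List.mem_ofFn.mp hu
        obtain ⟨j, rfl⟩ := List.mem_ofFn.mp hv
        exact ho i j), List.map_ofFn, List.sum_ofFn]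
    rfl
  by_cases h1 : lam = 1
  · have := e x
    rw [h1, one_smul] at this
    exact left_eq_add.mp this
  · exfalso
    set T := Submodule.span K (Set.range c)
    have hT := span_orth hK (A := Set.range c) (by
      rintro _ ⟨i, rfl⟩ _ ⟨j, rfl⟩; exact ho i j)
    have hall : ∀ y : Vec K, y ∈ T := fun y => by
      have hm : (lam - 1) • y ∈ T := by
        rw [sub_smul, one_smul, e y, add_sub_cancel_left]
        exact Submodule.sum_mem _ fun i _ =>
          Submodule.smul_mem _ _ (Submodule.subset_span ⟨i, rfl⟩)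
      simpa [smul_smul, sub_ne_zero.mpr h1] using T.smul_mem (lam - 1)⁻¹ hm
    have : Module.finrank K T ≤ 3 := finrank_orth_le hK hT
    rw [show T = ⊤ from eq_top_iff.mpr fun y _ => hall y, finrank_top,
      Module.finrank_fin_fun] at this
    omega

omit [Fintype K] hK in
theorem five_bool {β γ : Fin 3 → Bool} (h1 : ∀ i, β i ≠ γ i)
    (h2 : ∀ i j, i ≠ j → (β i && β j) = false) (h3 : ∀ i j, i ≠ j → (γ i && γ j) = false) :
    False := by
  have a := h1 0; have b := h1 1; have c := h1 2
  have d := h2 0 1 (by decide); have e := h2 0 2 (by decide); have f := h2 1 2 (by decide)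
  have g := h3 0 1 (by decide); have k := h3 0 2 (by decide); have m := h3 1 2 (by decide)
  revert a b c d e f g k m
  cases β 0 <;> cases β 1 <;> cases β 2 <;> cases γ 0 <;> cases γ 1 <;> cases γ 2 <;> simp

/-- five points whose transvections multiply to one: the first three are dependent -/
theorem five_dep {c : Fin 5 → Vec K}
    (hs : ∀ x, ∑ i, hb x (c i) • c i = 0) : ¬ LinearIndependent K ![c 0, c 1, c 2] := by
  classical
  intro hl
  choose x hx using fun j : Fin 3 => solve hK hl (fun i => if j = i then (1 : K) else 0)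
  set β := fun i => hb (x i) (c 3)
  set γ := fun i => hb (x i) (c 4)
  have key : ∀ i j : Fin 3,
      (if j = i then (1 : K) else 0) + β j * β i ^ 2 + γ j * γ i ^ 2 = 0 := fun i j => by
    have h := congrArg (fun v => hb v (x i)) (hs (x j))
    simp only [Fin.sum_univ_five, hb_add_left, hb_smul_left, hb_zero_left] at h
    have g : ∀ k : Fin 5, hb (c k) (x i) = hb (x i) (c k) ^ 2 := fun k => hb_conj hK (x i) (c k)
    rw [g, g, g, g, g] at h
    have a0 : ∀ k, hb (x k) (c 0) = if k = 0 then (1 : K) else 0 := fun k => hx k 0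
    have a1 : ∀ k, hb (x k) (c 1) = if k = 1 then (1 : K) else 0 := fun k => hx k 1
    have a2 : ∀ k, hb (x k) (c 2) = if k = 2 then (1 : K) else 0 := fun k => hx k 2
    rw [a0, a0, a1, a1, a2, a2] at h
    fin_cases i <;> fin_cases j <;> simp [β, γ] at h ⊢ <;> linear_combination h
  have excl : ∀ i, (β i ≠ 0 → γ i = 0) ∧ (β i = 0 → γ i ≠ 0) := fun i => by
    have h := key i i
    rw [if_pos rfl] at h
    refine ⟨fun hb0 => ?_, fun hb0 hg0 => by simp [hb0, hg0] at h⟩
    have h3 : β i * β i ^ 2 = 1 := by rw [← pow_succ']; exact pow_three hK hb0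
    rw [h3, add_self_zero hK, zero_add] at h
    rcases mul_eq_zero.mp h with q | q
    · exact q
    · exact pow_eq_zero_iff (n := 2) (by norm_num) |>.mp q
  refine five_bool (β := fun i => decide (β i ≠ 0)) (γ := fun i => decide (γ i ≠ 0))
    (fun i => ?_) (fun i j hij => ?_) fun i j hij => ?_
  · by_cases h : β i = 0
    · simp [h, (excl i).2 h]
    · simp [h, (excl i).1 h]
  · by_contra hne
    simp only [Bool.and_eq_false_iff, decide_eq_false_iff_not, not_or, not_not] at hne
    have h := key i j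
    rw [if_neg hij.symm, (excl i).1 hne.1, zero_pow (by norm_num), mul_zero, add_zero,
      zero_add] at h
    exact mul_ne_zero hne.2 (pow_ne_zero 2 hne.1) h
  · by_contra hne
    simp only [Bool.and_eq_false_iff, decide_eq_false_iff_not, not_or, not_not] at hne
    have hi : β i = 0 := by
      by_contra q; exact hne.1 ((excl i).1 q)
    have h := key i j
    rw [if_neg hij.symm, hi, zero_pow (by norm_num), mul_zero, add_zero, zero_add] at h
    exact mul_ne_zero hne.2 (pow_ne_zero 2 hne.1) h

/-- five points whose transvections multiply to one lie on the line of two of them -/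
theorem five_line {c : Fin 5 → Vec K}
    (hs : ∀ x, ∑ i, hb x (c i) • c i = 0) (h0 : c 0 ≠ 0) (h01 : ¬ SamePt (c 0) (c 1))
    (i : Fin 5) : c i ∈ Submodule.span K ({c 0, c 1} : Set (Vec K)) := by
  by_cases hi : i = 0
  · subst hi; exact Submodule.subset_span (Or.inl rfl)
  by_cases hi1 : i = 1
  · subst hi1; exact Submodule.subset_span (Or.inr rfl)
  by_contra hn
  set e := Equiv.swap (2 : Fin 5) i
  have e0 : e 0 = 0 := Equiv.swap_apply_of_ne_of_ne (by decide) (Ne.symm hi)
  have e1 : e 1 = 1 := Equiv.swap_apply_of_ne_of_ne (by decide) (Ne.symm hi1)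
  have e2 : e 2 = i := Equiv.swap_apply_left _ _
  refine five_dep hK (c := c ∘ e) (fun x => ?_) ?_
  · exact (Equiv.sum_comp e (fun k => hb x (c k) • c k)).trans (hs x)
  · show LinearIndependent K ![c (e 0), c (e 1), c (e 2)]
    rw [e0, e1, e2, show ![c 0, c 1, c i] = Fin.snoc ![c 0, c 1] (c i) by
      funext k; fin_cases k <;> rfl]
    refine linearIndependent_finSnoc.mpr ⟨indep_pair h0 h01, ?_⟩
    rwa [Matrix.range_cons_cons_empty]

/-- nine points of a plane in three frames with the same form -/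
theorem plane_nine {P Q : Fin 3 → Vec K} (p : Plane P Q) :
    ∃ V : Fin 3 → Fin 3 → Vec K, V 0 = P ∧ (∀ k i, IsPt (V k i)) ∧
      (∀ k i k' i', hb (V k i) (V k' i') = 0) ∧
      (∀ k i k' i', SamePt (V k i) (V k' i') → k = k' ∧ i = i') ∧
      ∀ k, tv hK (V k 0) * tv hK (V k 1) * tv hK (V k 2) =
        tv hK (P 0) * tv hK (P 1) * tv hK (P 2) := by
  classical
  obtain ⟨o, o0, o1, ho⟩ := exists_omega hK
  have h2 := two_zero hK
  have o3 := pow_three hK o0
  have o20 : o ^ 2 ≠ 0 := pow_ne_zero _ o0
  have o21 : o ^ 2 ≠ 1 := fun q => o1 (sq_eq_one hK q)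
  have oo : o ≠ o ^ 2 := fun q => o1 (mul_left_cancel₀ o0 (by linear_combination -q))
  let c := nineCoef o
  let V : Fin 3 → Fin 3 → Vec K := fun k i => c k i 0 • P 0 + c k i 1 • P 1 + c k i 2 • P 2
  have orth : ∀ k i k' i', hb (V k i) (V k' i') = 0 := fun k i k' i' => by
    simp [V, hb_add_left, hb_add_right hK, hb_smul_left, hb_smul_right, p.orth]
  have coef : ∀ (x y : Fin 3 → K), x 0 • P 0 + x 1 • P 1 + x 2 • P 2 =
      y 0 • P 0 + y 1 • P 1 + y 2 • P 2 → ∀ j, x j = y j := fun x y e j => by
    have := Fintype.linearIndependent_iff.mp p.li (fun j => x j - y j) (by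
      rw [Fin.sum_univ_three, sub_smul, sub_smul, sub_smul, ← sub_eq_zero.mpr e]; abel) j
    exact sub_eq_zero.mp this
  have hne0 : ∀ k i, V k i ≠ 0 := fun k i e => by
    have e' := coef (c k i) 0 (by simpa [V] using e)
    fin_cases k <;> fin_cases i <;>
      first
      | exact one_ne_zero (α := K) (e' 0)
      | exact one_ne_zero (α := K) (e' 1)
      | exact one_ne_zero (α := K) (e' 2)
  have hpt : ∀ k i, IsPt (V k i) := fun k i => ⟨hne0 k i, orth k i k i⟩
  have hcross : ∀ k i k' i', (k, i) ≠ (k', i') → c k i 0 * c k' i' 1 ≠ c k' i' 0 * c k i 1 ∨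
      c k i 0 * c k' i' 2 ≠ c k' i' 0 * c k i 2 ∨ c k i 1 * c k' i' 2 ≠ c k' i' 1 * c k i 2 := by
    have oo' : o * o = o ^ 2 := (pow_two o).symm
    intro k i k' i' hne
    fin_cases k <;> fin_cases i <;> fin_cases k' <;> fin_cases i' <;>
      first
      | exact absurd rfl hne
      | (simp [c, nineCoef, o0, o1, o20, o21, oo, oo', Ne.symm o1, Ne.symm o21, Ne.symm oo,
          Ne.symm o0, Ne.symm o20])
  refine ⟨V, ?_, hpt, orth, fun k i k' i' hs => ?_, fun k => ?_⟩
  · funext i
    fin_cases i <;> simp [V, c, nineCoef]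
  · by_contra hne
    have hne' : (k, i) ≠ (k', i') := fun e => hne (Prod.mk.inj e)
    obtain ⟨t, ht⟩ := hs
    have e' := coef (fun j => t * c k i j) (c k' i') (by
      simp only [V, smul_add, smul_smul] at ht; exact ht.symm)
    rcases hcross k i k' i' hne' with q | q | q <;> apply q
    · rw [← e' 0, ← e' 1]; ring
    · rw [← e' 0, ← e' 2]; ring
    · rw [← e' 1, ← e' 2]; ring
  · refine act_ext fun x => add_right_cancel (b := x) ?_
    rw [act_triple hK (orth k 0 k 0) (orth k 1 k 1) (orth k 2 k 2) (orth k 0 k 1) (orth k 0 k 2)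
      (orth k 1 k 2), act_triple hK (p.orth 0 0) (p.orth 1 1) (p.orth 2 2) (p.orth 0 1) (p.orth 0 2)
      (p.orth 1 2)]
    fin_cases k <;>
      simp only [V, c, nineCoef, Matrix.cons_val_zero, Matrix.cons_val_one, Matrix.cons_val_two,
        Matrix.head_cons, Matrix.tail_cons, hb_add_right hK, hb_smul_right, Fin.isValue, Fin.zero_eta,
        Fin.mk_one, Fin.reduceFinMk, one_smul, zero_smul, add_zero, zero_add] <;>
      match_scalars <;> grobner

/-- an involution is a product of transvections of independent orthogonal points -/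
theorem invol_list : ∀ (n : ℕ) (g : ↥(Cfsg.SU 6 K 2)) (T : Submodule K (Vec K)),
    Module.finrank K T ≤ n → g * g = 1 → (∀ x, act g x + x ∈ T) →
      ∃ (m : ℕ) (c : Fin m → Vec K), m ≤ n ∧ LinearIndependent K c ∧ (∀ i, IsPt (c i)) ∧
        (∀ i, c i ∈ T) ∧ g = (List.ofFn fun i => tv hK (c i)).prod := by
  intro n
  induction n with
  | zero =>
    intro g T hn _ hT
    have h0 : T = ⊥ := Submodule.finrank_eq_zero.mp (Nat.le_zero.mp hn)
    refine ⟨0, ![], le_rfl, linearIndependent_empty_type, fun i => i.elim0, fun i => i.elim0, ?_⟩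
    rw [List.ofFn_zero, List.prod_nil]
    exact act_ext fun x => by
      rw [act_one]; exact vec_eq_of_add hK ((Submodule.mem_bot K).mp (h0 ▸ hT x))
  | succ n ih =>
    intro g T hn hg hT
    by_cases h1 : g = 1
    · exact ⟨0, ![], Nat.zero_le _, linearIndependent_empty_type, fun i => i.elim0,
        fun i => i.elim0, by simp [h1]⟩
    obtain ⟨v, hv, hvT, g', T', hle, hvn, hg', hT', rfl⟩ := invol_split hK hg h1 hT
    have hlt : T' < T := lt_of_le_not_ge hle fun h => hvn (h hvT)
    have h2 := Submodule.finrank_lt_finrank_of_lt hlt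
    obtain ⟨m, c, hm, hl, hp, hc, rfl⟩ := ih g' T' (by omega) hg' hT'
    have hsp : Submodule.span K (Set.range c) ≤ T' := Submodule.span_le.mpr (by
      rintro _ ⟨i, rfl⟩; exact hc i)
    refine ⟨m + 1, Fin.snoc c v, by omega,
      linearIndependent_finSnoc.mpr ⟨hl, fun h => hvn (hsp h)⟩, fun i => ?_, fun i => ?_, ?_⟩
    · exact Fin.lastCases (by simpa using hv) (fun i => by simpa using hp i) i
    · exact Fin.lastCases (by simpa using hvT) (fun i => by simpa using hle (hc i)) i
    · rw [List.ofFn_succ_last (f := fun i => tv hK (Fin.snoc (α := fun _ => Vec K) c v i))]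
      simp

/-- an involution of `PSU` as a product of at most three orthogonal transvections -/
theorem invol_psu {e : Cfsg.PSU 6 K 2} (he : e * e = 1) :
    ∃ (m : ℕ) (c : Fin m → Vec K), m ≤ 3 ∧ LinearIndependent K c ∧ (∀ i, IsPt (c i)) ∧
      (∀ i j, hb (c i) (c j) = 0) ∧ e = (List.ofFn fun i => ptv hK (c i)).prod := by
  obtain ⟨g, hg, rfl⟩ := exists_invol_lift hK he
  set T := Submodule.span K (Set.range fun x => act g x + x) with hTdef
  have hT := span_orth hK (A := Set.range fun x => act g x + x) (by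
    rintro _ ⟨y, rfl⟩ _ ⟨z, rfl⟩; exact invol_iso hK hg y z)
  obtain ⟨m, c, hm, hl, hp, hc, rfl⟩ :=
    invol_list hK 3 g T (finrank_orth_le hK hT) hg fun x => Submodule.subset_span ⟨x, rfl⟩
  refine ⟨m, c, hm, hl, hp, fun i j => hT _ (hc i) _ (hc j), ?_⟩
  rw [← QuotientGroup.mk'_apply, map_list_prod, List.map_ofFn]
  rfl

end Cfsg.Agent.H80.Fischer
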