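import Cfsg.Agent.H80.Fischer.Plane22
import Cfsg.Agent.H93.Count23G

/-!
Involutions as products of at most three commuting members: the general part and type M(22).
-/

set_option autoImplicit false

namespace Cfsg.Agent.H80.Fischer

open Cfsg.Agent.H93

variable {G : Type*} [Group G] {D : Set G}

/-- `x` is the product of `m` distinct pairwise commuting members -/
def IsProd (D : Set G) (m : ℕ) (x : G) : Prop :=
  ∃ l : List G, l.Nodup ∧ l.length = m ∧ (∀ a ∈ l, a ∈ D) ∧ (∀ a ∈ l, ∀ b ∈ l, Commute a b) ∧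
    l.prod = x

/-- short factorisations have a well defined length -/
theorem len_unique (htt : TT D) {k : ℕ} (hind : Indep D k) : ∀ (n : ℕ) (m m' : ℕ) (x : G),
    m + m' ≤ n → m ≤ 3 → m' ≤ 3 → m + m' ≤ k → IsProd D m x → IsProd D m' x → m = m' := by
  classical
  intro n
  induction n with
  | zero => intros; omega
  | succ n ih =>
    rintro m m' x hn hm hm' hk ⟨l, hnd, rfl, hmem, hcom, hp⟩ ⟨l', hnd', rfl, hmem', hcom', hp'⟩
    by_cases hshare : ∃ v ∈ l, v ∈ l'
    · obtain ⟨v, hv, hv'⟩ := hshare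
      have h1 := List.length_pos_of_mem hv
      have h2 := List.length_pos_of_mem hv'
      have e1 := List.length_erase_of_mem hv
      have e2 := List.length_erase_of_mem hv'
      have := ih (l.erase v).length (l'.erase v).length (v * x) (by omega) (by omega) (by omega)
        (by omega)
        ⟨l.erase v, hnd.erase v, rfl, fun a ha => hmem a (List.mem_of_mem_erase ha),
          fun a ha b hb' => hcom a (List.mem_of_mem_erase ha) b (List.mem_of_mem_erase hb'), by
            rw [← hp, prod_eq_cons_erase hcom hv, htt.cancel (hmem v hv)]⟩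
        ⟨l'.erase v, hnd'.erase v, rfl, fun a ha => hmem' a (List.mem_of_mem_erase ha),
          fun a ha b hb' => hcom' a (List.mem_of_mem_erase ha) b (List.mem_of_mem_erase hb'), by
            rw [← hp', prod_eq_cons_erase hcom' hv', htt.cancel (hmem' v hv')]⟩
      omega
    · by_contra hne
      simp only [not_exists, not_and] at hshare
      have hcross : ∀ v ∈ l', ∀ a ∈ l, Commute v a := fun v hv a ha =>
        htt.commute_of_commute_prod (hmem' v hv) l hnd hm hmem hcom
          (by rw [hp, ← hp']; exact Commute.list_prod_right _ _ fun b hb' => hcom' v hv b hb') a ha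
      refine hind (l ++ l')
        (List.nodup_append.mpr ⟨hnd, hnd', fun a ha b hb' e => hshare a ha (e ▸ hb')⟩)
        (fun e => hne (by simp [List.append_eq_nil_iff.mp e]))
        (by rw [List.length_append]; omega)
        (fun a ha => (List.mem_append.mp ha).elim (hmem a) (hmem' a)) ?_ ?_
      · intro a ha b hb'
        rcases List.mem_append.mp ha with ha | ha <;> rcases List.mem_append.mp hb' with hb' | hb'
        · exact hcom a ha b hb'
        · exact (hcross b hb' a ha).symm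
        · exact hcross a ha b hb'
        · exact hcom' a ha b hb'
      · rw [List.prod_append, hp, hp', ← hp]
        exact prod_sq_one htt l hmem hcom

/-- the classes of involutions, from transitivity on commuting triples -/
theorem classes_of (htt : TT D) (hind : Indep D 5) (hne : D.Nonempty)
    (hcls : ∀ a ∈ D, ∀ b ∈ D, IsConj a b)
    (hedge : ∀ a ∈ D, ∃ b, b ∈ nb D a)
    (hext : ∀ a ∈ D, ∀ b ∈ nb D a, ∃ c, c ∈ nb D a ∩ nb D b)
    (h3 : ∀ {a b c a' b' c' : G}, a ∈ D → b ∈ nb D a → c ∈ nb D a ∩ nb D b → a' ∈ D → b' ∈ nb D a' →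
      c' ∈ nb D a' ∩ nb D b' → ∃ g, conj3 g (a, b, c) = (a', b', c'))
    (hdec : ∀ x : G, x * x = 1 → x ≠ 1 → ∃ m, 1 ≤ m ∧ m ≤ 3 ∧ IsProd D m x) :
    (∀ x : G, orderOf x = 2 → ∃ m : ℕ, 1 ≤ m ∧ m ≤ 3 ∧ IsProd D m x) ∧
      (∀ m : ℕ, 1 ≤ m → m ≤ 3 → (∃ x : G, orderOf x = 2 ∧ IsProd D m x) ∧
        ∀ x y : G, IsProd D m x → IsProd D m y → IsConj x y) ∧
      ∀ (m m' : ℕ) (x : G), 1 ≤ m → m ≤ 3 → 1 ≤ m' → m' ≤ 3 → IsProd D m x → IsProd D m' x →
        m = m' := by
  refine ⟨fun x hx => hdec x (by rw [← pow_two, ← hx, pow_orderOf_eq_one])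
    (fun e => by simp [e] at hx), fun m h1 hm => ⟨?_, ?_⟩, fun m m' x h1 hm h1' hm' hx hx' => ?_⟩
  · obtain ⟨a, ha⟩ := hne
    obtain ⟨b, hb'⟩ := hedge a ha
    obtain ⟨c, hca, hcb⟩ := hext a ha b hb'
    set t := [a, b, c]
    have tnd : t.Nodup := by simp [t, hb'.2.1.symm, hca.2.1.symm, hcb.2.1.symm]
    have tmem : ∀ x ∈ t, x ∈ D := by simp [t, ha, hb'.1, hca.1]
    have tcom : ∀ x ∈ t, ∀ y ∈ t, Commute x y := by
      simp [t, hb'.2.2, hb'.2.2.symm, hca.2.2, hca.2.2.symm, hcb.2.2, hcb.2.2.symm]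
    have tlen : (t.take m).length = m := by simp [t]; omega
    have lnd := (List.take_sublist m t).nodup tnd
    have lmem := fun x (hx : x ∈ t.take m) => tmem x (List.mem_of_mem_take hx)
    have lcom := fun x (hx : x ∈ t.take m) y (hy : y ∈ t.take m) =>
      tcom x (List.mem_of_mem_take hx) y (List.mem_of_mem_take hy)
    refine ⟨(t.take m).prod, ?_, t.take m, lnd, tlen, lmem, lcom, rfl⟩
    refine orderOf_eq_prime (by rw [pow_two]; exact prod_sq_one htt _ lmem lcom) ?_
    exact hind _ lnd (fun e => by rw [e] at tlen; simp at tlen; omega) (by omega) lmem lcom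
  · rintro x y ⟨l, hnd, hlen, hmem, hcom, rfl⟩ ⟨l', hnd', hlen', hmem', hcom', rfl⟩
    match l, l', hnd, hnd', hlen, hlen', hmem, hmem', hcom, hcom' with
    | [], _, _, _, hlen, _, _, _, _, _ => simp at hlen; omega
    | _, [], _, _, _, hlen', _, _, _, _ => simp at hlen'; omega
    | [a], [a'], _, _, _, _, hmem, hmem', _, _ =>
      simpa using hcls a (hmem a (by simp)) a' (hmem' a' (by simp))
    | [a, b], [a', b'], hnd, hnd', _, _, hmem, hmem', hcom, hcom' =>
      simp only [List.nodup_cons, List.mem_cons, List.not_mem_nil, or_false, List.nodup_nil,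
        and_true, not_false_eq_true] at hnd hnd'
      have hb' : b ∈ nb D a := ⟨hmem b (by simp), Ne.symm hnd, hcom a (by simp) b (by simp)⟩
      have hb'' : b' ∈ nb D a' := ⟨hmem' b' (by simp), Ne.symm hnd', hcom' a' (by simp) b' (by simp)⟩
      obtain ⟨c, hc⟩ := hext a (hmem a (by simp)) b hb'
      obtain ⟨c', hc'⟩ := hext a' (hmem' a' (by simp)) b' hb''
      obtain ⟨g, hg⟩ := h3 (hmem a (by simp)) hb' hc (hmem' a' (by simp)) hb'' hc'
      simp only [conj3, Prod.mk.injEq] at hg
      refine isConj_iff.mpr ⟨g, ?_⟩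
      simp only [List.prod_cons, List.prod_nil, mul_one]
      rw [← hg.1, ← hg.2.1]; group
    | [a, b, c], [a', b', c'], hnd, hnd', _, _, hmem, hmem', hcom, hcom' =>
      simp only [List.nodup_cons, List.mem_cons, List.not_mem_nil, or_false, not_or, List.nodup_nil,
        and_true, not_false_eq_true] at hnd hnd'
      have mk : ∀ {a b c : G}, (¬a = b ∧ ¬a = c) ∧ ¬b = c → (∀ x ∈ [a, b, c], x ∈ D) →
          (∀ x ∈ [a, b, c], ∀ y ∈ [a, b, c], Commute x y) →
          a ∈ D ∧ b ∈ nb D a ∧ c ∈ nb D a ∩ nb D b := fun {a b c} n hm hc =>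
        ⟨hm a (by simp), ⟨hm b (by simp), Ne.symm n.1.1, hc a (by simp) b (by simp)⟩,
          ⟨hm c (by simp), Ne.symm n.1.2, hc a (by simp) c (by simp)⟩,
          ⟨hm c (by simp), Ne.symm n.2, hc b (by simp) c (by simp)⟩⟩
      obtain ⟨p1, p2, p3⟩ := mk hnd hmem hcom
      obtain ⟨q1, q2, q3⟩ := mk hnd' hmem' hcom'
      obtain ⟨g, hg⟩ := h3 p1 p2 p3 q1 q2 q3
      simp only [conj3, Prod.mk.injEq] at hg
      refine isConj_iff.mpr ⟨g, ?_⟩
      simp only [List.prod_cons, List.prod_nil, mul_one]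
      rw [← hg.1, ← hg.2.1, ← hg.2.2]; group
    | [_], _ :: _ :: _, _, _, hlen, hlen', _, _, _, _ => simp at hlen hlen'; omega
    | [_, _], [_], _, _, hlen, hlen', _, _, _, _ => simp at hlen hlen'; omega
    | [_, _], _ :: _ :: _ :: _, _, _, hlen, hlen', _, _, _, _ => simp at hlen hlen'; omega
    | [_, _, _], [_], _, _, hlen, hlen', _, _, _, _ => simp at hlen hlen'; omega
    | [_, _, _], [_, _], _, _, hlen, hlen', _, _, _, _ => simp at hlen hlen'; omega
    | [_, _, _], _ :: _ :: _ :: _ :: _, _, _, hlen, hlen', _, _, _, _ =>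
      simp at hlen hlen'; omega
    | _ :: _ :: _ :: _ :: _, _, _, _, hlen, _, _, _, _, _ => simp at hlen; omega
  · by_contra hne'
    exact hne' (len_unique htt hind (m + m') m m' x le_rfl hm hm' (by omega) hx hx')

/-! ### type M(22) -/

variable {K : Type*} [Field K] [Fintype K] (h : Geo22 D K)

include h

/-- two commuting members have a common neighbour -/
theorem ext22 {a b : G} (ha : a ∈ D) (hb' : b ∈ nb D a) : ∃ c, c ∈ nb D a ∩ nb D b := by
  obtain ⟨π, -, ⟨xs⟩⟩ := h.exists_space ha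
  obtain ⟨u, hu, rfl⟩ := xs.sp.surj b hb'
  obtain ⟨v, hv, huv, hs⟩ := exists_orth_pt h.hK hu
  exact ⟨xs.sp.pt v, xs.sp.mem hv, (xs.sp.mem hv).1,
    fun e => hs ((xs.sp.same hu hv).mp e.symm), (xs.sp.comm hu hv).mpr huv⟩

/-- an involution is a product of at most three commuting members -/
theorem decomp22 {F : Type*} [Field F] [Fintype F] (hd : M22Data D F) {x : G} (hx : x * x = 1)
    (hx1 : x ≠ 1) : ∃ m, 1 ≤ m ∧ m ≤ 3 ∧ IsProd D m x := by
  classical
  have hK := h.hK
  have htt := h.core.tt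
  obtain ⟨a, ha, hxa⟩ := hd.exists_commute hx
  obtain ⟨π, he, ⟨xs⟩⟩ := h.exists_space ha
  set X : ↥(Subgroup.centralizer ({a} : Set G)) := ⟨x, mem_cent hxa.symm⟩ with hX
  obtain ⟨m, c, hm, hl, hp, ho, hprod⟩ := invol_psu hK (e := π X) (by
    rw [← map_mul, show X * X = 1 from Subtype.ext hx, map_one])
  let y : Fin m → G := fun i => xs.sp.pt (c i)
  have ymem : ∀ i, y i ∈ nb D a := fun i => xs.sp.mem (hp i)
  have ycom : ∀ i j, Commute (y i) (y j) := fun i j => (xs.sp.comm (hp i) (hp j)).mpr (ho i j)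
  have yinj : Function.Injective y := fun i j e => by
    by_contra hne
    obtain ⟨t, ht⟩ := (xs.sp.same (hp i) (hp j)).mp e
    exact hl.notMem_span_image (s := {i}) (x := j) (by simpa using Ne.symm hne)
      (by rw [Set.image_singleton, Submodule.mem_span_singleton]; exact ⟨t, ht.symm⟩)
  set l := List.ofFn y with hldef
  have lmem : ∀ z ∈ l, z ∈ nb D a := fun z hz => by
    obtain ⟨i, rfl⟩ := List.mem_ofFn.mp hz; exact ymem i
  have lcom : ∀ z ∈ l, ∀ w ∈ l, Commute z w := fun z hz w hw => by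
    obtain ⟨i, rfl⟩ := List.mem_ofFn.mp hz
    obtain ⟨j, rfl⟩ := List.mem_ofFn.mp hw
    exact ycom i j
  set U := (List.ofFn fun i => (⟨y i, mem_cent (ymem i).2.2⟩ :
    ↥(Subgroup.centralizer ({a} : Set G)))).prod with hU
  have hUc : (U : G) = l.prod := by
    rw [hU, ← Subgroup.coe_subtype, map_list_prod, List.map_ofFn]; rfl
  have hUπ : π U = π X := by
    rw [hU, map_list_prod, List.map_ofFn, hprod]
    exact congrArg (fun f => (List.ofFn f).prod) (funext fun i => xs.eq (hp i))
  rcases he.eq_or hUπ with q | q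
  · have q' : x = l.prod := (congrArg Subtype.val q).trans hUc
    refine ⟨m, ?_, hm, l, List.nodup_ofFn.mpr yinj, List.length_ofFn .., fun z hz => (lmem z hz).1,
      lcom, q'.symm⟩
    rcases Nat.eq_zero_or_pos m with rfl | hpos
    · exact absurd (q'.trans (by simp [hldef])) hx1
    · exact hpos
  have q' : x = l.prod * a := by
    rw [← hUc]; exact congrArg Subtype.val q
  by_cases hm2 : m ≤ 2
  · refine ⟨m + 1, by omega, by omega, l ++ [a], ?_, by simp [hldef], ?_, ?_, by simp [q']⟩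
    · refine List.nodup_append.mpr ⟨List.nodup_ofFn.mpr yinj, by simp, fun z hz w hw e => ?_⟩
      rw [List.mem_singleton] at hw
      exact (lmem z hz).2.1 (e.trans hw)
    · intro z hz
      rcases List.mem_append.mp hz with hz | hz
      · exact (lmem z hz).1
      · rw [List.mem_singleton] at hz; exact hz ▸ ha
    · intro z hz w hw
      rcases List.mem_append.mp hz with hz | hz <;> rcases List.mem_append.mp hw with hw | hw
      · exact lcom z hz w hw
      · rw [List.mem_singleton] at hw; exact hw ▸ (lmem z hz).2.2.symm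
      · rw [List.mem_singleton] at hz; exact hz ▸ (lmem w hw).2.2
      · rw [List.mem_singleton] at hz hw; rw [hz, hw]
  obtain rfl : m = 3 := by omega
  obtain ⟨Q, p⟩ := exists_plane_of_li hK hl ho
  obtain ⟨s, hs, sinj, scom, hsp⟩ := plane_six h he xs p
  refine ⟨3, by norm_num, le_rfl, List.ofFn s, List.nodup_ofFn.mpr sinj, List.length_ofFn .., ?_, ?_, ?_⟩
  · intro z hz; obtain ⟨i, rfl⟩ := List.mem_ofFn.mp hz; exact (hs i).1
  · intro z hz w hw
    obtain ⟨i, rfl⟩ := List.mem_ofFn.mp hz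
    obtain ⟨j, rfl⟩ := List.mem_ofFn.mp hw
    exact scom i j
  · have hT : l.prod * l.prod = 1 := prod_sq_one htt l (fun z hz => (lmem z hz).1) lcom
    have hl3 : l.prod = y 0 * y 1 * y 2 := by simp [hldef, List.ofFn_succ, mul_assoc]
    have hs3 : (List.ofFn s).prod = s 0 * s 1 * s 2 := by simp [List.ofFn_succ, mul_assoc]
    rw [hs3, q', ← hsp]
    show s 0 * s 1 * s 2 = l.prod * (y 0 * y 1 * y 2 * (s 0 * s 1 * s 2))
    rw [← hl3, ← mul_assoc, hT, one_mul]

/-- the involution classes in type M(22) -/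
theorem classes22 [Finite G] {F : Type*} [Field F] [Fintype F] (hd : M22Data D F) :
    (∀ x : G, orderOf x = 2 → ∃ m : ℕ, 1 ≤ m ∧ m ≤ 3 ∧ IsProd D m x) ∧
      (∀ m : ℕ, 1 ≤ m → m ≤ 3 → (∃ x : G, orderOf x = 2 ∧ IsProd D m x) ∧
        ∀ x y : G, IsProd D m x → IsProd D m y → IsConj x y) ∧
      ∀ (m m' : ℕ) (x : G), 1 ≤ m → m ≤ 3 → 1 ≤ m' → m' ≤ 3 → IsProd D m x → IsProd D m' x →
        m = m' :=
  classes_of h.core.tt hd.ind hd.nonempty h.core.cls h.core.edge
    (fun _ ha _ hb' => ext22 h ha hb')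
    (fun ha hb' hc ha' hb'' hc' => hd.trans3 h.cent ha hb' hc ha' hb'' hc')
    fun _ hx hx1 => decomp22 h hd hx hx1

end Cfsg.Agent.H80.Fischer
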