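import Cfsg.Agent.H80.Fischer.Invol

/-!
Involutions in type M(23).
-/

set_option autoImplicit false

namespace Cfsg.Agent.H80.Fischer

open Cfsg.Agent.H93

variable {G : Type*} [Group G] {D : Set G}

/-- a list in a residue comes from a list in the neighbourhood -/
theorem lift_list (hcore : Core D) {a : G} (ha : a ∈ D) {l' : List (Residue D a)} (hnd : l'.Nodup)
    (hmem : ∀ e ∈ l', e ∈ resSet D a) (hcom : ∀ e ∈ l', ∀ f ∈ l', Commute e f) :
    ∃ l : List G, l.Nodup ∧ l.length = l'.length ∧ (∀ y ∈ l, y ∈ nb D a) ∧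
      (∀ y ∈ l, ∀ z ∈ l, Commute y z) ∧ l.map (rimg D a) = l' := by
  classical
  let g : Residue D a → G := fun e => if h : e ∈ resSet D a then (rimg_surj h).choose else 1
  have hg : ∀ e ∈ l', g e ∈ nb D a ∧ rimg D a (g e) = e := fun e he => by
    simp only [g, dif_pos (hmem e he)]
    exact (rimg_surj (hmem e he)).choose_spec
  refine ⟨l'.map g, hnd.map_on fun e he f hf q => ?_, List.length_map .., fun y hy => ?_,
    fun y hy z hz => ?_, ?_⟩
  · rw [← (hg e he).2, q, (hg f hf).2]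
  · obtain ⟨e, he, rfl⟩ := List.mem_map.mp hy
    exact (hg e he).1
  · obtain ⟨e, he, rfl⟩ := List.mem_map.mp hy
    obtain ⟨f, hf, rfl⟩ := List.mem_map.mp hz
    rw [← hcore.rimg_comm (hg e he).1 (hg f hf).1, (hg e he).2, (hg f hf).2]
    exact hcom e he f hf
  · rw [List.map_map]
    exact (List.map_congr_left fun e he => (hg e he).2).trans (List.map_id' l')

/-- five members of a line through a commuting pair in type M(22) -/
theorem line_five {F : Type*} [Field F] [Fintype F] (hd : M22Data D F) {a b : G} (ha : a ∈ D)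
    (hb' : b ∈ nb D a) : ∃ l : List G, l.length = 5 ∧ l.Nodup ∧ (∀ y ∈ l, y ∈ nb D a) ∧
      (∀ y ∈ l, ∀ z ∈ l, Commute y z) ∧ l.prod = a := by
  classical
  have htt := hd.core.tt
  obtain ⟨sp⟩ := hd.spaces a ha
  obtain ⟨u, hu, rfl⟩ := sp.surj b hb'
  obtain ⟨v, hv, huv, hs⟩ := exists_orth_pt hd.hF hu
  obtain ⟨p, q, r, hp, hq, hr, hnd, hcom, -, -, hline⟩ := sp.exists_line hd.hF
    (fun y hy => htt.sq y hy.1) hb' (sp.mem hv) (fun e => hs ((sp.same hu hv).mp e))
    ((sp.comm hu hv).mpr huv)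
  set l := [sp.pt u, sp.pt v, p, q, r] with hl
  have hmem : ∀ x ∈ l, x ∈ nb D a := fun x hx => by
    simp only [hl, List.mem_cons, List.not_mem_nil, or_false] at hx
    rcases hx with rfl | rfl | rfl | rfl | rfl <;>
      first
      | exact sp.mem hv
      | assumption
  have hprod : l.prod = sp.pt u * sp.pt v * p * q * r := by simp [hl, mul_assoc]
  refine ⟨l, rfl, hnd, hmem, hcom, (hd.kernel_nb ha ?_ fun v hv => ?_).resolve_left
    (hd.ind l hnd (by simp [hl]) (by simp [hl]) (fun x hx => (hmem x hx).1) hcom)⟩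
  · exact (Commute.list_prod_right _ _ fun x hx => (hmem x hx).2.2).symm
  · rw [hprod]; exact (hline v hv).symm

variable (h : Geo23 D) (hm : M23Data D)

include h hm

/-- six commuting neighbours of a member multiply to it -/
theorem six23 {a : G} (ha : a ∈ D) :
    ∃ l : List G, l.length = 6 ∧ l.Nodup ∧ (∀ y ∈ l, y ∈ nb D a) ∧
      (∀ y ∈ l, ∀ z ∈ l, Commute y z) ∧ l.prod = a := by
  obtain ⟨F, iF, iFF, hM, -⟩ := hm.res a ha
  obtain ⟨b, hb'⟩ := h.core.edge a ha
  obtain ⟨e1, he1⟩ := hM.core.edge _ (rimg_mem hb')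
  obtain ⟨l5, hlen, hnd, hmem, hcom, hprod⟩ := line_five hM (rimg_mem hb') he1
  obtain ⟨l, h1, h2, h3, h4, h5⟩ := lift_list h.core ha (l' := rimg D a b :: l5)
    (List.nodup_cons.mpr ⟨fun q => (hmem _ q).2.1 rfl, hnd⟩)
    (fun e he => by
      rcases List.mem_cons.mp he with rfl | he
      exacts [rimg_mem hb', (hmem e he).1])
    (fun e he f hf => by
      rcases List.mem_cons.mp he with rfl | he <;> rcases List.mem_cons.mp hf with rfl | hf
      exacts [Commute.refl _, (hmem f hf).2.2, (hmem e he).2.2.symm, hcom e he f hf])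
  rw [List.length_cons, hlen] at h2
  obtain ⟨hin, e⟩ := rimg_prod h3
  rw [h5, List.prod_cons, hprod, hM.core.tt.sq _ (rimg_mem hb')] at e
  refine ⟨l, h2, h1, h3, h4, (h.two a ha ⟨_, hin⟩ ((QuotientGroup.eq_one_iff _).mp e)).resolve_left
    (hm.ind l h1 (fun q => by rw [q] at h2; simp at h2) (by omega) (fun y hy => (h3 y hy).1) h4)⟩

/-- two commuting members have a common neighbour -/
theorem ext23 {a b : G} (ha : a ∈ D) (hb' : b ∈ nb D a) : ∃ c, c ∈ nb D a ∩ nb D b := by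
  obtain ⟨F, iF, iFF, hM, -⟩ := hm.res a ha
  obtain ⟨e, he⟩ := hM.core.edge _ (rimg_mem hb')
  obtain ⟨c, hc, -⟩ := h.core.rimg_nb_surj ha hb' he
  exact ⟨c, hc⟩

omit hm in
/-- three commuting members have a common neighbour -/
theorem ext23' {a b c : G} (ha : a ∈ D) (hb' : b ∈ nb D a) (hc : c ∈ nb D a ∩ nb D b) :
    ∃ d, d ∈ nb D a ∩ nb D b ∧ d ∈ nb D c := by
  obtain ⟨K, iK, iKF, h22⟩ := h.res a ha
  obtain ⟨e, he⟩ := ext22 h22 (rimg_mem hb') (h.core.rimg_nb ha hb' hc)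
  obtain ⟨d, hd, rfl⟩ := h.core.rimg_nb_surj ha hb' he.1
  exact ⟨d, hd, hd.1.1, fun q => he.2.2.1 (by rw [q]), (h.core.rimg_comm hc.1 hd.1).mp he.2.2.2⟩

/-- the commuting quadruples are conjugate -/
theorem trans4 {a p q r a' p' q' r' : G} (ha : a ∈ D) (hp : p ∈ nb D a) (hq : q ∈ nb D a ∩ nb D p)
    (hr : r ∈ nb D a ∩ nb D p) (hrq : r ∈ nb D q) (ha' : a' ∈ D) (hp' : p' ∈ nb D a')
    (hq' : q' ∈ nb D a' ∩ nb D p') (hr' : r' ∈ nb D a' ∩ nb D p') (hrq' : r' ∈ nb D q') :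
    ∃ g : G, g * a * g⁻¹ = a' ∧ g * p * g⁻¹ = p' ∧ g * q * g⁻¹ = q' ∧ g * r * g⁻¹ = r' := by
  have htt := h.core.tt
  obtain ⟨g, rfl⟩ := isConj_iff.mp (h.core.cls a ha a' ha')
  have hp1 := htt.nb_conj g hp
  have hq1 := htt.nb_conj g hq.1
  have hq2 := htt.nb_conj g hq.2
  have hr1 := htt.nb_conj g hr.1
  have hr2 := htt.nb_conj g hr.2
  have hrq1 := htt.nb_conj g hrq
  obtain ⟨F, iF, iFF, hM, hcent, -⟩ := hm.res _ ha'
  obtain ⟨γ, hγ⟩ := hM.trans3 hcent (rimg_mem hp1) (h.core.rimg_nb ha' hp1 ⟨hq1, hq2⟩)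
    ⟨h.core.rimg_nb ha' hp1 ⟨hr1, hr2⟩, h.core.rimg_nb ha' hq1 ⟨hr1, hrq1⟩⟩
    (rimg_mem hp') (h.core.rimg_nb ha' hp' hq')
    ⟨h.core.rimg_nb ha' hp' hr', h.core.rimg_nb ha' hq'.1 ⟨hr'.1, hrq'⟩⟩
  simp only [conj3, Prod.mk.injEq] at hγ
  obtain ⟨k, hk, hkk⟩ := h.res_lift ha' γ
  refine ⟨k * g, ?_, ?_, ?_, ?_⟩
  · rw [show k * g * a * (k * g)⁻¹ = k * (g * a * g⁻¹) * k⁻¹ by group]
    exact mul_inv_eq_iff_eq_mul.mpr hk.eq
  · rw [← hkk hp1 hp' hγ.1]; group
  · rw [← hkk hq1 hq'.1 hγ.2.1]; group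
  · rw [← hkk hr1 hr'.1 hγ.2.2]; group

/-- a product of four commuting members is one of three -/
theorem four_three {a p q r : G} (ha : a ∈ D) (hp : p ∈ nb D a) (hq : q ∈ nb D a ∩ nb D p)
    (hr : r ∈ nb D a ∩ nb D p) (hrq : r ∈ nb D q) : IsProd D 3 (a * p * q * r) := by
  have htt := h.core.tt
  obtain ⟨l, hlen, hnd, hmem, hcom, hprod⟩ := six23 h hm ha
  match l, hlen, hnd, hmem, hcom, hprod with
  | [y0, y1, y2, y3, y4, y5], _, hnd, hmem, hcom, hprod =>
    simp only [List.nodup_cons, List.mem_cons, List.not_mem_nil, or_false, not_or,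
      List.nodup_nil, and_true, not_false_eq_true] at hnd
    obtain ⟨⟨n01, n02, -⟩, ⟨n12, -⟩, -, ⟨n34, n35⟩, n45⟩ := hnd
    have m : ∀ y, y ∈ [y0, y1, y2, y3, y4, y5] → y ∈ D := fun y hy => (hmem y hy).1
    obtain ⟨g, g0, g1, g2, g3⟩ := trans4 h hm ha (hmem y0 (by simp))
      ⟨hmem y1 (by simp), m y1 (by simp), Ne.symm n01, hcom y0 (by simp) y1 (by simp)⟩
      ⟨hmem y2 (by simp), m y2 (by simp), Ne.symm n02, hcom y0 (by simp) y2 (by simp)⟩
      ⟨m y2 (by simp), Ne.symm n12, hcom y1 (by simp) y2 (by simp)⟩ ha hp hq hr hrq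
    refine ⟨[y3, y4, y5].map (fun y => g * y * g⁻¹), List.Nodup.map
        (fun u v e => mul_left_cancel (mul_right_cancel e)) (by simp [n34, n35, n45]), rfl, ?_, ?_, ?_⟩
    · intro z hz
      obtain ⟨y, hy, rfl⟩ := List.mem_map.mp hz
      exact htt.conj_mem g y (m y (by simp at hy ⊢; tauto))
    · intro z hz w hw
      obtain ⟨y, hy, rfl⟩ := List.mem_map.mp hz
      obtain ⟨v, hv, rfl⟩ := List.mem_map.mp hw
      exact commute_conj.mpr (hcom y (by simp at hy ⊢; tauto) v (by simp at hv ⊢; tauto))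
    · have sq012 := prod_sq_one htt [y0, y1, y2] (fun y hy => m y (by simp at hy ⊢; tauto))
        (fun y hy v hv => hcom y (by simp at hy ⊢; tauto) v (by simp at hv ⊢; tauto))
      have c : Commute (y0 * y1 * y2) a := Commute.mul_left (Commute.mul_left
        (hmem y0 (by simp)).2.2.symm (hmem y1 (by simp)).2.2.symm) (hmem y2 (by simp)).2.2.symm
      simp only [List.prod_cons, List.prod_nil, mul_one] at sq012 hprod
      rw [← mul_assoc y0 y1 y2] at sq012
      have key : a * y0 * y1 * y2 = y3 * y4 * y5 := by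
        calc a * y0 * y1 * y2 = a * (y0 * y1 * y2) := by group
          _ = (y0 * y1 * y2) * a := c.eq.symm
          _ = (y0 * y1 * y2) * (y0 * (y1 * (y2 * (y3 * (y4 * y5))))) := by rw [hprod]
          _ = ((y0 * y1 * y2) * (y0 * y1 * y2)) * (y3 * y4 * y5) := by group
          _ = _ := by rw [sq012, one_mul]
      simp only [List.map_cons, List.map_nil, List.prod_cons, List.prod_nil, mul_one]
      rw [← g1, ← g2, ← g3]
      calc g * y3 * g⁻¹ * (g * y4 * g⁻¹ * (g * y5 * g⁻¹)) = g * (y3 * y4 * y5) * g⁻¹ := by group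
        _ = g * (a * y0 * y1 * y2) * g⁻¹ := by rw [key]
        _ = (g * a * g⁻¹) * (g * y0 * g⁻¹) * (g * y1 * g⁻¹) * (g * y2 * g⁻¹) := by group
        _ = _ := by rw [g0]

/-- an involution is a product of at most three commuting members -/
theorem decomp23 [Finite G] {x : G} (hx : x * x = 1) (hx1 : x ≠ 1) :
    ∃ m, 1 ≤ m ∧ m ≤ 3 ∧ IsProd D m x := by
  classical
  have htt := h.core.tt
  obtain ⟨a0, ha0⟩ := hm.nonempty
  obtain ⟨a, ha, hxa⟩ : ∃ a ∈ D, Commute x a := by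
    have hi : x⁻¹ = x := inv_eq_of_mul_eq_one_left hx
    let f : ↥D → ↥D := fun y => ⟨x * y * x⁻¹, htt.conj_mem x y y.2⟩
    have hf : Function.Involutive f := fun y => Subtype.ext (by
      show x * (x * y * x⁻¹) * x⁻¹ = y
      rw [hi, show x * (x * (y : G) * x) * x = (x * x) * y * (x * x) by group, hx, one_mul, mul_one])
    have := Fintype.ofFinite ↥D
    obtain ⟨y, hy⟩ := Equiv.Perm.exists_fixed_point_of_prime (p := 2) (n := 1) (σ := hf.toPerm f) (by
      rw [← Nat.card_eq_fintype_card, Nat.card_coe_set_eq, h.card_members ha0]; decide)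
      (Equiv.ext fun y => by
        show ((hf.toPerm f) ^ (2 ^ 1)) y = y
        rw [pow_one, pow_two]; exact hf y)
    exact ⟨y, y.2, mul_inv_eq_iff_eq_mul.mp (congrArg Subtype.val hy)⟩
  have hxin : x ∈ nbSub D a := h.cent a ha ▸ mem_cent hxa.symm
  set X : ↥(nbSub D a) := ⟨x, hxin⟩
  set e : Residue D a := QuotientGroup.mk X
  by_cases he1 : e = 1
  · have hxe : x = a := (h.two a ha X ((QuotientGroup.eq_one_iff _).mp he1)).resolve_left hx1
    exact ⟨1, le_rfl, by norm_num, [a], by simp, rfl, by simp [ha], by simp, by simp [hxe]⟩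
  obtain ⟨K, iK, iKF, h22⟩ := h.res a ha
  obtain ⟨F, iF, iFF, hM, -⟩ := hm.res a ha
  obtain ⟨m, hm1, hm3, l', hnd', hlen', hmem', hcom', hp'⟩ := decomp22 h22 hM (x := e)
    (by rw [← QuotientGroup.mk_mul, show X * X = 1 from Subtype.ext hx]; rfl) he1
  obtain ⟨l, hnd, hlen, hmem, hcom, hmap⟩ := lift_list h.core ha hnd' hmem' hcom'
  rw [hlen'] at hlen
  obtain ⟨hin, eq⟩ := rimg_prod hmem
  rw [hmap, hp'] at eq
  have hq := h.two a ha (⟨l.prod, hin⟩⁻¹ * X) (QuotientGroup.eq.mp eq)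
  rw [Subgroup.coe_mul, Subgroup.coe_inv] at hq
  rcases hq with q | q
  · exact ⟨m, hm1, hm3, l, hnd, hlen, fun z hz => (hmem z hz).1, hcom, inv_mul_eq_one.mp q⟩
  have q' : x = l.prod * a := inv_mul_eq_iff_eq_mul.mp q
  by_cases hm2 : m ≤ 2
  · refine ⟨m + 1, by omega, by omega, l ++ [a], ?_, by simp [hlen], ?_, ?_, by simp [q']⟩
    · refine List.nodup_append.mpr ⟨hnd, by simp, fun z hz w hw e => ?_⟩
      rw [List.mem_singleton] at hw
      exact (hmem z hz).2.1 (e.trans hw)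
    · intro z hz
      rcases List.mem_append.mp hz with hz | hz
      · exact (hmem z hz).1
      · rw [List.mem_singleton] at hz; exact hz ▸ ha
    · intro z hz w hw
      rcases List.mem_append.mp hz with hz | hz <;> rcases List.mem_append.mp hw with hw | hw
      · exact hcom z hz w hw
      · rw [List.mem_singleton] at hw; exact hw ▸ (hmem z hz).2.2.symm
      · rw [List.mem_singleton] at hz; exact hz ▸ (hmem w hw).2.2
      · rw [List.mem_singleton] at hz hw; rw [hz, hw]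
  refine ⟨3, by norm_num, le_rfl, ?_⟩
  obtain rfl : m = 3 := by omega
  match l, hlen, hnd, hmem, hcom, q' with
  | [p, q, r], _, hnd, hmem, hcom, q' =>
    simp only [List.nodup_cons, List.mem_cons, List.not_mem_nil, or_false, not_or,
      List.nodup_nil, and_true, not_false_eq_true] at hnd
    have := four_three h hm ha (hmem p (by simp))
      ⟨hmem q (by simp), (hmem q (by simp)).1, Ne.symm hnd.1.1, hcom p (by simp) q (by simp)⟩
      ⟨hmem r (by simp), (hmem r (by simp)).1, Ne.symm hnd.1.2, hcom p (by simp) r (by simp)⟩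
      ⟨(hmem r (by simp)).1, Ne.symm hnd.2, hcom q (by simp) r (by simp)⟩
    convert this using 1
    rw [q', ← (Commute.list_prod_right _ _ fun z hz => (hmem z hz).2.2).eq]
    simp [mul_assoc]

/-- the involution classes in type M(23) -/
theorem classes23 [Finite G] :
    (∀ x : G, orderOf x = 2 → ∃ m : ℕ, 1 ≤ m ∧ m ≤ 3 ∧ IsProd D m x) ∧
      (∀ m : ℕ, 1 ≤ m → m ≤ 3 → (∃ x : G, orderOf x = 2 ∧ IsProd D m x) ∧
        ∀ x y : G, IsProd D m x → IsProd D m y → IsConj x y) ∧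
      ∀ (m m' : ℕ) (x : G), 1 ≤ m → m ≤ 3 → 1 ≤ m' → m' ≤ 3 → IsProd D m x → IsProd D m' x →
        m = m' :=
  classes_of h.core.tt (hm.ind.mono (by norm_num)) hm.nonempty h.core.cls h.core.edge
    (fun _ ha _ hb' => ext23 h hm ha hb')
    (fun {a b c a' b' c'} ha hb' hc ha' hb'' hc' => by
      obtain ⟨d, hd, hd'⟩ := ext23' h ha hb' hc
      obtain ⟨d', he, he'⟩ := ext23' h ha' hb'' hc'
      obtain ⟨g, g0, g1, g2, -⟩ := trans4 h hm ha hb' hc hd hd' ha' hb'' hc' he he'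
      exact ⟨g, by simp [conj3, g0, g1, g2]⟩)
    fun _ hx hx1 => decomp23 h hm hx hx1

end Cfsg.Agent.H80.Fischer
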