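import Cfsg.Agent.H80.Fischer.Width

/-!
The neighbourhood subgroup of a member in types M(22) and M(23), in the form of the statements.
-/

set_option autoImplicit false

namespace Cfsg.Agent.H80.Fischer

open Cfsg.Agent.H93

variable {G : Type*} [Group G] {D : Set G}

/-- the two element centre as a subgroup -/
theorem center_zpowers {H : Subgroup G} {d : G} (hd : d * d = 1)
    (h : ∀ x : ↥H, x ∈ Subgroup.center ↥H ↔ (x : G) = 1 ∨ (x : G) = d) :
    Subgroup.center ↥H = (Subgroup.zpowers d).subgroupOf H := by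
  ext x
  rw [h, Subgroup.mem_subgroupOf]
  constructor
  · rintro (e | e) <;> rw [e]
    exacts [one_mem _, Subgroup.mem_zpowers d]
  · intro hx
    obtain ⟨k, hk⟩ := Subgroup.mem_zpowers_iff.mp hx
    rcases Int.even_or_odd' k with ⟨m, rfl | rfl⟩
    · left; rw [← hk, zpow_mul, zpow_two, hd, one_zpow]
    · right; rw [← hk, zpow_add, zpow_mul, zpow_two, hd, one_zpow, one_mul, zpow_one]

theorem member22 [Finite G] (hD : Cfsg.IsThreeTranspositionGroup D)
    (hprim : Cfsg.IsPrimitiveUnderConj D) (ht : Cfsg.IsOfTypeM22 G D) :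
    IsSimpleGroup G ∧ ∀ d ∈ D, Subgroup.centralizer ({d} : Set G) = nbSub D d ∧
      d ∈ nbSub D d ∧ Cfsg.IsQuasisimple ↥(nbSub D d) ∧
      Subgroup.center ↥(nbSub D d) = (Subgroup.zpowers d).subgroupOf (nbSub D d) := by
  have hclass := class_of_group hD hprim
  obtain ⟨K, iK, iKF, h⟩ := geo22 hclass ht
  obtain ⟨a, ha, -⟩ := hprim.2.1
  refine ⟨simple22 h hD.2.2 ⟨a, ha⟩, fun d hd => ?_⟩
  have e := h.cent d hd
  obtain ⟨f1, f2, f3, -⟩ := cent22_facts h hd
  rw [← e]
  exact ⟨rfl, mem_cent (Commute.refl d), ⟨f1, f2⟩, center_zpowers (h.core.tt.sq d hd) f3⟩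

theorem member23 [Finite G] (hD : Cfsg.IsThreeTranspositionGroup D)
    (hprim : Cfsg.IsPrimitiveUnderConj D) (ht : Cfsg.IsOfTypeM23 G D) :
    IsSimpleGroup G ∧ ∀ d ∈ D, Subgroup.centralizer ({d} : Set G) = nbSub D d ∧
      d ∈ nbSub D d ∧ Cfsg.IsQuasisimple ↥(nbSub D d) ∧
      Subgroup.center ↥(nbSub D d) = (Subgroup.zpowers d).subgroupOf (nbSub D d) := by
  have hclass := class_of_group hD hprim
  have h := geo23 hclass ht
  have hm := m23data hclass ht
  refine ⟨simple23 h hm, fun d hd => ?_⟩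
  obtain ⟨f1, f2, f3, -⟩ := cent23_facts h hm hd
  exact ⟨h.cent d hd, h.self d hd, ⟨f1, f2⟩, center_zpowers (h.core.tt.sq d hd) f3⟩

end Cfsg.Agent.H80.Fischer
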