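import Cfsg.Agent.H80.Fischer.Clique

/-!
Groups of type M(22): each triple of members spanning a plane in the residue at a member has a partner
triple, the six multiplying to the member.
-/

set_option autoImplicit false

namespace Cfsg.Agent.H80.Fischer

open Cfsg.Agent.H93

variable {G : Type*} [Group G] {D : Set G} {K : Type*} [Field K] [Fintype K]

/-- five members with product the centre member lie on the line of the first two -/
theorem five_span (hK : Fintype.card K = 4) {b : G}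
    {π : ↥(Subgroup.centralizer ({b} : Set G)) →* Cfsg.PSU 6 K 2}
    (he : TwoExt π ⟨b, mem_cent (Commute.refl b)⟩) (xs : ExtSpace hK D b π) {y : Fin 5 → G}
    {w : Fin 5 → Vec K} (hw : ∀ i, IsPt (w i)) (hy : ∀ i, xs.sp.pt (w i) = y i)
    (hc : ∀ i j, Commute (y i) (y j)) (h01 : y 0 ≠ y 1) (hp : y 0 * y 1 * y 2 * y 3 * y 4 = b)
    (i : Fin 5) : w i ∈ Submodule.span K ({w 0, w 1} : Set (Vec K)) := by
  have ho : ∀ i j, hb (w i) (w j) = 0 := fun i j =>
    (xs.sp.comm (hw i) (hw j)).mp (by rw [hy, hy]; exact hc i j)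
  refine five_line hK (central_sum_zero hK ho ?_) (hw 0).1
    (fun e => h01 (by rw [← hy, ← hy]; exact (xs.sp.same (hw 0) (hw 1)).mpr e)) i
  have e : ∀ i, π ⟨xs.sp.pt (w i), mem_cent (xs.sp.mem (hw i)).2.2⟩ = ptv hK (w i) := fun i =>
    xs.eq (hw i)
  rw [← QuotientGroup.eq_one_iff]
  calc ((List.ofFn fun i => tv hK (w i)).prod : Cfsg.PSU 6 K 2)
      = ptv hK (w 0) * ptv hK (w 1) * ptv hK (w 2) * ptv hK (w 3) * ptv hK (w 4) := by
        simp [List.ofFn_succ, ptv, mul_assoc]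
    _ = π ⟨b, mem_cent (Commute.refl b)⟩ := by
        rw [← e, ← e, ← e, ← e, ← e, ← map_mul, ← map_mul, ← map_mul, ← map_mul]
        refine congrArg π (Subtype.ext ?_)
        show xs.sp.pt (w 0) * xs.sp.pt (w 1) * xs.sp.pt (w 2) * xs.sp.pt (w 3) * xs.sp.pt (w 4) = b
        rw [hy, hy, hy, hy, hy, hp]
    _ = 1 := he.π_d hK

variable (h : Geo22 D K)

include h

/-- a frame of a plane has a partner frame, the six members multiplying to the centre member -/
theorem plane_six {a : G} {π : ↥(Subgroup.centralizer ({a} : Set G)) →* Cfsg.PSU 6 K 2}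
    (he : TwoExt π ⟨a, mem_cent (Commute.refl a)⟩) (xs : ExtSpace h.hK D a π)
    {P Q : Fin 3 → Vec K} (p : Plane P Q) :
    ∃ s : Fin 3 → G, (∀ i, s i ∈ nb D a) ∧ Function.Injective s ∧ (∀ i j, Commute (s i) (s j)) ∧
      xs.sp.pt (P 0) * xs.sp.pt (P 1) * xs.sp.pt (P 2) * (s 0 * s 1 * s 2) = a := by
  classical
  have hK := h.hK
  have htt := h.core.tt
  obtain ⟨V, hV0, hpt, orth, hinj, htv⟩ := plane_nine hK p
  let x : Fin 3 → Fin 3 → G := fun k i => xs.sp.pt (V k i)
  have xmem : ∀ k i, x k i ∈ nb D a := fun k i => xs.sp.mem (hpt k i)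
  have xcom : ∀ k i k' i', Commute (x k i) (x k' i') := fun k i k' i' =>
    (xs.sp.comm (hpt k i) (hpt k' i')).mpr (orth k i k' i')
  have xinj : ∀ k i k' i', x k i = x k' i' → k = k' ∧ i = i' := fun k i k' i' e =>
    hinj k i k' i' ((xs.sp.same (hpt k i) (hpt k' i')).mp e)
  let T : Fin 3 → G := fun k => x k 0 * x k 1 * x k 2
  have Tsq : ∀ k, T k * T k = 1 := fun k => by
    have := prod_sq_one htt [x k 0, x k 1, x k 2] (by simp [(xmem _ _).1]) (by simp [xcom])
    simpa [T, mul_assoc] using this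
  have eq : ∀ k, T k = T 0 ∨ T k = T 0 * a := fun k => by
    let U : Fin 3 → ↥(Subgroup.centralizer ({a} : Set G)) := fun k =>
      ⟨x k 0, mem_cent (xmem k 0).2.2⟩ * ⟨x k 1, mem_cent (xmem k 1).2.2⟩ *
        ⟨x k 2, mem_cent (xmem k 2).2.2⟩
    have img : ∀ k, π (U k) =
        QuotientGroup.mk (tv hK (P 0) * tv hK (P 1) * tv hK (P 2)) := fun k => by
      simp only [U, x, map_mul, xs.eq (hpt k 0), xs.eq (hpt k 1), xs.eq (hpt k 2)]
      rw [← htv k, QuotientGroup.mk_mul, QuotientGroup.mk_mul]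
      rfl
    exact (he.eq_or ((img 0).trans (img k).symm)).imp (congrArg Subtype.val) (congrArg Subtype.val)
  have hPT : xs.sp.pt (P 0) * xs.sp.pt (P 1) * xs.sp.pt (P 2) = T 0 := by
    simp only [T, x, hV0]
  by_cases hex : ∃ k, T k = T 0 * a
  · obtain ⟨k, hk⟩ := hex
    refine ⟨x k, xmem k, fun i j e => (xinj k i k j e).2, fun i j => xcom k i k j, ?_⟩
    rw [hPT]
    show T 0 * T k = a
    rw [hk, ← mul_assoc, Tsq, one_mul]
  exfalso
  have all : ∀ k, T k = T 0 := fun k => (eq k).resolve_right fun e => hex ⟨k, e⟩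
  set b := x 0 0
  obtain ⟨πb, heb, ⟨xb⟩⟩ := h.exists_space (xmem 0 0).1
  have mem_b : ∀ q : Fin 3 × Fin 3, q ≠ (0, 0) → x q.1 q.2 ∈ nb D b := fun q hq =>
    ⟨(xmem _ _).1, fun e => hq (Prod.ext (xinj _ _ _ _ e).1 (xinj _ _ _ _ e).2), xcom _ _ _ _⟩
  choose w hw hwp using fun q : {q : Fin 3 × Fin 3 // q ≠ (0, 0)} =>
    xb.sp.surj _ (mem_b q.1 q.2)
  have line : ∀ k : Fin 3, ∀ hk : k ≠ 0, ∀ i,
      w ⟨(k, i), by simp [hk]⟩ ∈ Submodule.span K
        ({w ⟨(0, 1), by simp⟩, w ⟨(0, 2), by simp⟩} : Set (Vec K)) := by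
    intro k hk i
    let q : Fin 5 → {q : Fin 3 × Fin 3 // q ≠ (0, 0)} :=
      ![⟨(0, 1), by simp⟩, ⟨(0, 2), by simp⟩, ⟨(k, 0), by simp [hk]⟩, ⟨(k, 1), by simp [hk]⟩,
        ⟨(k, 2), by simp [hk]⟩]
    have hp : x 0 1 * x 0 2 * x k 0 * x k 1 * x k 2 = b := by
      calc x 0 1 * x 0 2 * x k 0 * x k 1 * x k 2 = x 0 0 * (x 0 0 * x 0 1 * x 0 2) * T k := by
            simp only [T]; rw [mul_assoc (x 0 0) (x 0 1), htt.cancel (xmem 0 0).1]; group
        _ = x 0 0 * (T 0 * T 0) := by rw [all k, mul_assoc]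
        _ = b := by rw [Tsq, mul_one]
    have key := five_span hK heb xb (y := fun j => x (q j).1.1 (q j).1.2) (w := fun j => w (q j))
      (fun j => hw _) (fun j => hwp _) (fun j j' => xcom _ _ _ _)
      (fun e => by simpa [q] using (xinj _ _ _ _ e).2) hp
    fin_cases i
    · exact key 2
    · exact key 3
    · exact key 4
  have hall : ∀ q, w q ∈ Submodule.span K
      ({w ⟨(0, 1), by simp⟩, w ⟨(0, 2), by simp⟩} : Set (Vec K)) := by
    rintro ⟨⟨k, i⟩, hq⟩
    by_cases hk : k = 0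
    · subst hk
      fin_cases i
      · exact absurd rfl hq
      · exact Submodule.subset_span (Or.inl rfl)
      · exact Submodule.subset_span (Or.inr rfl)
    · exact line k hk i
  set T2 := Submodule.span K ({w ⟨(0, 1), by simp⟩, w ⟨(0, 2), by simp⟩} : Set (Vec K))
  have h1 := rep_count hK xb.sp T2
    (E := Set.range fun q : {q : Fin 3 × Fin 3 // q ≠ (0, 0)} => x q.1.1 q.1.2) (by
      rintro _ ⟨q, rfl⟩; exact ⟨w q, hall q, hw q, hwp q⟩)
  have h2 : Module.finrank K T2 ≤ 2 := by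
    have := finrank_span_finset_le_card (R := K)
      ({w ⟨(0, 1), by simp⟩, w ⟨(0, 2), by simp⟩} : Finset (Vec K))
    rw [Finset.coe_insert, Finset.coe_singleton] at this
    exact le_trans this (Finset.card_le_two)
  have h3 : 4 ^ Module.finrank K T2 ≤ 4 ^ 2 := Nat.pow_le_pow_right (by norm_num) h2
  rw [← Set.image_univ, Set.ncard_image_of_injective _ (fun q q' e =>
    Subtype.ext (Prod.ext (xinj _ _ _ _ e).1 (xinj _ _ _ _ e).2)), Set.ncard_univ,
    Nat.card_eq_fintype_card, Fintype.card_subtype_compl, Fintype.card_subtype_eq] at h1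
  simp at h1
  omega

end Cfsg.Agent.H80.Fischer
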